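import Cfsg.Agent.H35.ClassPrime.Defs
import Cfsg.Agent.H35.AbOrbit.Core
import Cfsg.Agent.H52.RegPair.Field

/-!
An irreducible module of a soluble group split by an abelian normal subgroup of prime exponent: the
components are indexed by the maximal ideals of the ring the subgroup spans, and each is a vector
space over the residue field on which the centraliser of the subgroup is completely reducible.
-/

set_option autoImplicit false
set_option linter.unusedSectionVars false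
set_option linter.style.haveILetI false

namespace Cfsg.Agent.H35.ClassPrime

open Cfsg.Agent.H52.RegPair

universe u

/-- A normal subgroup of a group acting irreducibly acts completely reducibly. -/
theorem cr_of_normal {G : Type u} [Group G] {V : Type u} [AddCommGroup V] [Finite V] [Nontrivial V]
    [DistribMulAction G V] (hirr : Irr G V) (N : Subgroup G) [hN : N.Normal] : CR N V := by
  classical
  intro U hU
  haveI : Finite (AddSubgroup V) :=
    Finite.of_injective (fun D : AddSubgroup V => (D : Set V)) SetLike.coe_injective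
  obtain ⟨X, ⟨hX0, hXN⟩, hXmin⟩ := (Set.toFinite
    {X : AddSubgroup V | X ≠ ⊥ ∧ Inv N V X}).exists_minimal
      ⟨⊤, top_ne_bot, fun _ _ _ => AddSubgroup.mem_top _⟩
  obtain ⟨W, ⟨hWN, hWU⟩, hWmax⟩ := (Set.toFinite
    {W : AddSubgroup V | Inv N V W ∧ U ⊓ W = ⊥}).exists_maximal
      ⟨⊥, fun g x hx => by rw [AddSubgroup.mem_bot] at hx ⊢; rw [hx, smul_zero], inf_bot_eq _⟩
  refine ⟨W, hWN, hWU, ?_⟩
  by_contra hne
  let T : G → AddSubgroup V := fun g => X.map (DistribMulAction.toAddMonoidEnd G V g)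
  have hT : ∀ g, Inv N V (T g) := by
    rintro g n _ ⟨x, hx, rfl⟩
    refine ⟨(g⁻¹ * n * g) • x, hXN ⟨g⁻¹ * n * g, by
      simpa using hN.conj_mem n n.2 g⁻¹⟩ x hx, ?_⟩
    show g • (g⁻¹ * (n : G) * g) • x = (n : G) • g • x
    simp [← mul_smul, mul_assoc]
  obtain ⟨g, hg⟩ : ∃ g, ¬ T g ≤ U ⊔ W := by
    by_contra hall
    push Not at hall
    have hinv : Inv G V (⨆ g, T g) := by
      intro a x hx
      refine AddSubgroup.iSup_induction _ (C := fun x => a • x ∈ ⨆ g, T g) hx ?_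
        (by rw [smul_zero]; exact zero_mem _)
        (fun y z hy hz => by rw [smul_add]; exact add_mem hy hz)
      rintro g _ ⟨x, hx, rfl⟩
      exact AddSubgroup.mem_iSup_of_mem (a * g) ⟨x, hx, mul_smul a g x⟩
    rcases hirr _ hinv with h | h
    · refine hX0 (eq_bot_iff.2 fun x hx => ?_)
      have : (1 : G) • x ∈ ⨆ g, T g := AddSubgroup.mem_iSup_of_mem 1 ⟨x, hx, rfl⟩
      rwa [h, one_smul] at this
    · exact hne (eq_top_iff.2 (h ▸ iSup_le hall))
  have hUW : Inv N V (U ⊔ W) := by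
    intro n x hx
    obtain ⟨y, hy, z, hz, rfl⟩ := AddSubgroup.mem_sup.1 hx
    rw [smul_add]
    exact AddSubgroup.mem_sup.2 ⟨_, hU n y hy, _, hWN n z hz, rfl⟩
  have hmeet : ∀ y ∈ T g, y ∈ U ⊔ W → y = 0 := by
    let Y : AddSubgroup V := X ⊓ (U ⊔ W).comap (DistribMulAction.toAddMonoidEnd G V g)
    have hY : Inv N V Y := by
      rintro n x ⟨hx, hx'⟩
      refine ⟨hXN n x hx, ?_⟩
      have := hUW ⟨g * n * g⁻¹, hN.conj_mem n n.2 g⟩ _ hx'
      show g • ((n : G) • x) ∈ U ⊔ W
      change (g * (n : G) * g⁻¹) • g • x ∈ U ⊔ W at this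
      rwa [← mul_smul, inv_mul_cancel_right, mul_smul] at this
    rintro _ ⟨x, hx, rfl⟩ hy
    by_contra hne0
    have hY0 : Y ≠ ⊥ := fun h => hne0 (by
      have : x ∈ Y := ⟨hx, hy⟩
      rw [h, AddSubgroup.mem_bot] at this
      rw [this]; exact smul_zero g)
    refine hg ?_
    rintro _ ⟨z, hz, rfl⟩
    exact (hXmin ⟨hY0, hY⟩ inf_le_left hz).2
  have hbig : U ⊓ (W ⊔ T g) = ⊥ := by
    refine (AddSubgroup.eq_bot_iff_forall _).2 ?_
    rintro u ⟨hu, hu'⟩
    obtain ⟨z, hz, y, hy, rfl⟩ := AddSubgroup.mem_sup.1 hu'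
    have hyUW : y ∈ U ⊔ W := by
      have := sub_mem (AddSubgroup.mem_sup_left (T := W) hu) (AddSubgroup.mem_sup_right (S := U) hz)
      rwa [add_sub_cancel_left] at this
    have hy0 := hmeet y hy hyUW
    rw [hy0, add_zero] at hu ⊢
    have : z ∈ U ⊓ W := ⟨hu, hz⟩
    rwa [hWU, AddSubgroup.mem_bot] at this
  have hinvbig : Inv N V (W ⊔ T g) := by
    intro n x hx
    obtain ⟨y, hy, z, hz, rfl⟩ := AddSubgroup.mem_sup.1 hx
    rw [smul_add]
    exact AddSubgroup.mem_sup.2 ⟨_, hWN n y hy, _, hT g n z hz, rfl⟩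
  exact hg ((le_sup_right.trans (hWmax ⟨hinvbig, hbig⟩ le_sup_left)).trans le_sup_right)

/-- A commutative ring of endomorphisms normalised by a group. -/
structure RingAct (H : Type u) [Group H] (V : Type u) [AddCommGroup V] [DistribMulAction H V]
    (R : Type u) [CommRing R] where
  ι : R →+* AddMonoid.End V
  inj : Function.Injective ι
  σ : H → R →+* R
  smul_ι : ∀ (g : H) (x : R) (v : V), g • ι x v = ι (σ g x) (g • v)

namespace RingAct

variable {H : Type u} [Group H] {V : Type u} [AddCommGroup V] [DistribMulAction H V]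
  {R : Type u} [CommRing R] (D : RingAct H V R)

theorem ι_mul (x y : R) (v : V) : D.ι (x * y) v = D.ι x (D.ι y v) := by rw [map_mul]; rfl

theorem ι_one (v : V) : D.ι 1 v = v := by rw [map_one]; rfl

theorem ι_zero (v : V) : D.ι 0 v = 0 := by rw [map_zero]; rfl

theorem ext_ι {x y : R} (h : ∀ v : V, D.ι x v = D.ι y v) : x = y := D.inj (AddMonoidHom.ext h)

theorem σ_mul (a b : H) (x : R) : D.σ (a * b) x = D.σ a (D.σ b x) := by
  refine D.ext_ι fun v => ?_
  obtain ⟨w, rfl⟩ : ∃ w, (a * b) • w = v := ⟨_, smul_inv_smul (a * b) v⟩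
  rw [← D.smul_ι, mul_smul, mul_smul, D.smul_ι, D.smul_ι]

theorem σ_one (x : R) : D.σ 1 x = x := by
  refine D.ext_ι fun v => ?_
  have := D.smul_ι 1 x v
  rw [one_smul, one_smul] at this
  exact this.symm

theorem σ_inv_σ (g : H) (x : R) : D.σ g⁻¹ (D.σ g x) = x := by
  rw [← D.σ_mul, inv_mul_cancel, D.σ_one]

theorem σ_σ_inv (g : H) (x : R) : D.σ g (D.σ g⁻¹ x) = x := by
  rw [← D.σ_mul, mul_inv_cancel, D.σ_one]

/-- The action on the maximal ideals. -/
def act (g : H) (ω : MaximalSpectrum R) : MaximalSpectrum R :=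
  ⟨ω.asIdeal.comap (D.σ g⁻¹), by
    haveI := ω.isMaximal
    exact Ideal.comap_isMaximal_of_surjective _ fun x => ⟨D.σ g x, D.σ_inv_σ g x⟩⟩

theorem mem_act {g : H} {ω : MaximalSpectrum R} {x : R} :
    x ∈ (D.act g ω).asIdeal ↔ D.σ g⁻¹ x ∈ ω.asIdeal := Iff.rfl

theorem σ_mem_act {g : H} {ω : MaximalSpectrum R} {x : R} :
    D.σ g x ∈ (D.act g ω).asIdeal ↔ x ∈ ω.asIdeal := by rw [D.mem_act, D.σ_inv_σ]

theorem act_mul (a b : H) (ω : MaximalSpectrum R) : D.act (a * b) ω = D.act a (D.act b ω) := by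
  refine MaximalSpectrum.ext (Ideal.ext fun x => ?_)
  rw [D.mem_act, D.mem_act, D.mem_act, mul_inv_rev, D.σ_mul]

theorem act_one (ω : MaximalSpectrum R) : D.act 1 ω = ω := by
  refine MaximalSpectrum.ext (Ideal.ext fun x => ?_)
  rw [D.mem_act, inv_one, D.σ_one]

/-- The permutations of the maximal ideals. -/
def perm : H →* Equiv.Perm (MaximalSpectrum R) where
  toFun g := ⟨D.act g, D.act g⁻¹,
    fun ω => by rw [← D.act_mul, inv_mul_cancel, D.act_one],
    fun ω => by rw [← D.act_mul, mul_inv_cancel, D.act_one]⟩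
  map_one' := Equiv.ext D.act_one
  map_mul' a b := Equiv.ext (D.act_mul a b)

variable [Finite R] [IsReduced R]

theorem ext_mod {x y : R} (h : ∀ ω : MaximalSpectrum R, x - y ∈ ω.asIdeal) : x = y := by
  refine (IsArtinianRing.equivPi R).injective (funext fun ω => ?_)
  rw [IsArtinianRing.equivPi_apply, IsArtinianRing.equivPi_apply]
  exact (Ideal.Quotient.mk_eq_mk_iff_sub_mem x y).2 (h ω)

open Classical in
/-- The primitive idempotent at a maximal ideal. -/
noncomputable def idem (ω : MaximalSpectrum R) : R :=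
  (IsArtinianRing.equivPi R).symm (Pi.single ω 1)

open Classical in
theorem idem_sub_mem (ω μ : MaximalSpectrum R) :
    idem ω - (if μ = ω then 1 else 0) ∈ μ.asIdeal := by
  refine (Ideal.Quotient.mk_eq_mk_iff_sub_mem _ _).1 ?_
  have h := IsArtinianRing.equivPi_apply (R := R) (idem ω) μ
  rw [idem, AlgEquiv.apply_symm_apply] at h
  refine h.symm.trans ?_
  rcases eq_or_ne μ ω with rfl | hne
  · rw [Pi.single_eq_same, if_pos rfl]; rfl
  · rw [Pi.single_eq_of_ne hne, if_neg hne]; rfl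

theorem one_sub_idem_mem (ω : MaximalSpectrum R) : idem ω - 1 ∈ ω.asIdeal := by
  simpa using idem_sub_mem ω ω

theorem idem_mem {ω μ : MaximalSpectrum R} (h : μ ≠ ω) : idem ω ∈ μ.asIdeal := by
  have := idem_sub_mem ω μ
  rwa [if_neg h, sub_zero] at this

theorem idem_mul_idem {ω μ : MaximalSpectrum R} (h : μ ≠ ω) : idem ω * idem μ = 0 := by
  refine ext_mod fun ν => ?_
  rw [sub_zero]
  rcases eq_or_ne ν ω with rfl | hν
  · exact Ideal.mul_mem_left _ _ (idem_mem h.symm)
  · exact Ideal.mul_mem_right _ _ (idem_mem hν)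

theorem mul_idem_eq_zero {ω : MaximalSpectrum R} {x : R} (hx : x ∈ ω.asIdeal) :
    x * idem ω = 0 := by
  refine ext_mod fun ν => ?_
  rw [sub_zero]
  rcases eq_or_ne ν ω with rfl | hν
  · exact Ideal.mul_mem_right _ _ hx
  · exact Ideal.mul_mem_left _ _ (idem_mem hν)

theorem idem_mul_self (ω : MaximalSpectrum R) : idem ω * idem ω = idem ω := by
  have h := mul_idem_eq_zero (one_sub_idem_mem ω)
  rwa [sub_mul, one_mul, sub_eq_zero] at h

theorem idem_ne_zero (ω : MaximalSpectrum R) : idem ω ≠ 0 := by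
  intro h
  have h1 := one_sub_idem_mem ω
  rw [h, zero_sub] at h1
  exact ω.isMaximal.ne_top ((Ideal.eq_top_iff_one _).2 (neg_mem_iff.1 h1))

theorem sum_idem [Fintype (MaximalSpectrum R)] : ∑ ω, idem ω = (1 : R) := by
  classical
  refine ext_mod fun μ => ?_
  have h : ∑ ω, idem ω - 1 = ∑ ω : MaximalSpectrum R, (idem ω - if μ = ω then 1 else 0) := by
    rw [Finset.sum_sub_distrib, Finset.sum_ite_eq, if_pos (Finset.mem_univ _)]
  rw [h]
  exact Submodule.sum_mem _ fun ω _ => idem_sub_mem ω μ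

theorem σ_idem (g : H) (ω : MaximalSpectrum R) : D.σ g (idem ω) = idem (D.act g ω) := by
  classical
  refine ext_mod fun μ => ?_
  obtain ⟨ν, rfl⟩ : ∃ ν, D.act g ν = μ := ⟨_, (D.perm g).apply_symm_apply μ⟩
  have h1 := (D.σ_mem_act (g := g)).2 (idem_sub_mem ω ν)
  have h2 := idem_sub_mem (D.act g ω) (D.act g ν)
  have hiff : D.act g ν = D.act g ω ↔ ν = ω := (D.perm g).injective.eq_iff
  simp only [hiff] at h2
  rw [map_sub, apply_ite (D.σ g), map_one, map_zero] at h1
  have := sub_mem h1 h2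
  rwa [sub_sub_sub_cancel_right] at this

/-- A component. -/
noncomputable def U (ω : MaximalSpectrum R) : AddSubgroup V where
  carrier := {v | D.ι (idem ω) v = v}
  zero_mem' := map_zero _
  add_mem' := fun {a b} ha hb => by
    show D.ι (idem ω) (a + b) = a + b
    rw [map_add, show D.ι (idem ω) a = a from ha, show D.ι (idem ω) b = b from hb]
  neg_mem' := fun {a} ha => by
    show D.ι (idem ω) (-a) = -a
    rw [map_neg, show D.ι (idem ω) a = a from ha]

theorem mem_U {ω : MaximalSpectrum R} {v : V} : v ∈ D.U ω ↔ D.ι (idem ω) v = v := Iff.rfl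

theorem idem_apply_mem (ω : MaximalSpectrum R) (v : V) : D.ι (idem ω) v ∈ D.U ω := by
  rw [D.mem_U, ← D.ι_mul, idem_mul_self]

theorem ι_mem_U (ω : MaximalSpectrum R) (x : R) {v : V} (hv : v ∈ D.U ω) :
    D.ι x v ∈ D.U ω := by
  rw [D.mem_U, ← D.ι_mul, mul_comm, D.ι_mul, D.mem_U.1 hv]

theorem smul_mem_U (g : H) {ω : MaximalSpectrum R} {v : V} (hv : v ∈ D.U ω) :
    g • v ∈ D.U (D.act g ω) := by
  rw [D.mem_U, ← D.σ_idem, ← D.smul_ι, D.mem_U.1 hv]

theorem ι_idem_smul (g : H) (ω : MaximalSpectrum R) (v : V) :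
    D.ι (idem (D.act g ω)) (g • v) = g • D.ι (idem ω) v := by rw [D.smul_ι, D.σ_idem]

theorem ι_idem_of_mem {ω μ : MaximalSpectrum R} (h : μ ≠ ω) {v : V} (hv : v ∈ D.U μ) :
    D.ι (idem ω) v = 0 := by
  rw [← D.mem_U.1 hv, ← D.ι_mul, idem_mul_idem h, map_zero]; rfl

theorem U_ne_bot (ω : MaximalSpectrum R) : D.U ω ≠ ⊥ := by
  intro h
  refine idem_ne_zero ω (D.ext_ι fun v => ?_)
  rw [D.ι_zero]
  exact AddSubgroup.mem_bot.1 (h ▸ D.idem_apply_mem ω v)

theorem sum_ι_idem [Fintype (MaximalSpectrum R)] (v : V) : ∑ ω, D.ι (idem ω) v = v := by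
  have h := congrArg (fun x => D.ι x v) (sum_idem (R := R))
  simp only [map_sum, map_one] at h
  exact (AddMonoidHom.finsetSum_apply (fun ω => D.ι (idem ω)) Finset.univ v).symm.trans h

/-- The ring acting on a component. -/
noncomputable def toEndU (ω : MaximalSpectrum R) : R →+* AddMonoid.End (D.U ω) where
  toFun x :=
    { toFun := fun v => ⟨D.ι x v, D.ι_mem_U ω x v.2⟩
      map_zero' := Subtype.ext (map_zero _)
      map_add' := fun a b => Subtype.ext (map_add _ (a : V) b) }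
  map_one' := AddMonoidHom.ext fun v => Subtype.ext (by
    show D.ι 1 (v : V) = v
    rw [map_one]; rfl)
  map_mul' x y := AddMonoidHom.ext fun v => Subtype.ext (D.ι_mul x y v)
  map_zero' := AddMonoidHom.ext fun v => Subtype.ext (by
    show D.ι 0 (v : V) = 0
    rw [map_zero]; rfl)
  map_add' x y := AddMonoidHom.ext fun v => Subtype.ext (by
    show D.ι (x + y) (v : V) = D.ι x v + D.ι y v
    rw [map_add]; rfl)

theorem toEndU_eq_zero {ω : MaximalSpectrum R} {x : R} (hx : x ∈ ω.asIdeal) :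
    D.toEndU ω x = 0 := by
  refine AddMonoidHom.ext fun v => Subtype.ext ?_
  show D.ι x (v : V) = 0
  rw [← D.mem_U.1 v.2, ← D.ι_mul, mul_idem_eq_zero hx, map_zero]; rfl

/-- The vector space over the residue field. -/
noncomputable instance moduleU (ω : MaximalSpectrum R) : Module (R ⧸ ω.asIdeal) (D.U ω) :=
  Module.compHom (D.U ω) (Ideal.Quotient.lift ω.asIdeal (D.toEndU ω) fun _ hx => D.toEndU_eq_zero hx)

theorem mk_smul (ω : MaximalSpectrum R) (x : R) (v : D.U ω) :
    ((Ideal.Quotient.mk ω.asIdeal x • v : D.U ω) : V) = D.ι x v := rfl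

end RingAct

/-- The image of a subgroup in the units of a finite field has at most `p` elements when the
subgroup has exponent `p`. -/
theorem card_le_card_ker_mul {W : Type*} [Group W] [Finite W] {K : Type*} [Field K] [Finite K]
    (φ : W →* Kˣ) (L : Subgroup W) (p : ℕ) (hp : 0 < p) (hpow : ∀ x : W, x ^ p = 1) :
    Nat.card L ≤ Nat.card ↥(L ⊓ φ.ker) * p := by
  let f := φ.comp L.subtype
  have h1 : Nat.card f.range ≤ p := by
    refine Nat.le_of_dvd hp ?_
    rw [← IsCyclic.exponent_eq_card]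
    refine Monoid.exponent_dvd_of_forall_pow_eq_one ?_
    rintro ⟨_, x, rfl⟩
    refine Subtype.ext ?_
    show f x ^ p = 1
    rw [← map_pow, show x ^ p = 1 from Subtype.ext (hpow x), map_one]
  have h2 : Nat.card f.ker ≤ Nat.card ↥(L ⊓ φ.ker) :=
    Nat.card_le_card_of_injective
      (fun x : f.ker => (⟨((x : L) : W), (x : L).2, x.2⟩ : ↥(L ⊓ φ.ker)))
      fun x y h => Subtype.ext (Subtype.ext (congrArg Subtype.val h :))
  calc Nat.card L = Nat.card f.ker * f.ker.index := (Subgroup.card_mul_index _).symm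
    _ ≤ Nat.card ↥(L ⊓ φ.ker) * p := Nat.mul_le_mul h2 (by rw [Subgroup.index_ker]; exact h1)

/-- A finite field has at most as many maps into another as its dimension over the prime field. -/
theorem card_ringHom_le {K L : Type*} [Field K] [Finite K] [Field L] (r d : ℕ) [Fact r.Prime]
    [CharP K r] [CharP L r] (hd : Nat.card K = r ^ d) : Nat.card (K →+* L) ≤ d ∧ Finite (K →+* L) := by
  letI := ZMod.algebra K r
  letI := ZMod.algebra L r
  haveI : Finite (K →ₐ[ZMod r] L) := Finite.algHom (ZMod r) K L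
  have hsur : Function.Surjective (fun f : K →ₐ[ZMod r] L => f.toRingHom) := fun f =>
    ⟨AlgHom.mk f (RingHom.congr_fun
      (RingHom.ext_zmod (f.comp (algebraMap (ZMod r) K)) (algebraMap (ZMod r) L))), rfl⟩
  haveI : Finite (K →+* L) := Finite.of_surjective _ hsur
  refine ⟨(Nat.card_le_card_of_surjective _ hsur).trans
    ((card_algHom_le_finrank (ZMod r) K L).trans ?_), inferInstance⟩
  have h := Module.natCard_eq_pow_finrank (K := ZMod r) (V := K)
  rw [Nat.card_zmod, hd] at h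
  exact (Nat.pow_right_injective (Fact.out : r.Prime).two_le h).ge

/-- Separating the elements of an abelian group of prime exponent by few characters. -/
theorem exists_separating {W : Type*} [Group W] [Finite W] {Ω : Type*} [Fintype Ω]
    (K : Ω → Type*) [∀ ω, Field (K ω)] [∀ ω, Finite (K ω)] (φ : ∀ ω, W →* (K ω)ˣ)
    (p w : ℕ) (hp : p.Prime) (hWpow : ∀ x : W, x ^ p = 1) (hWcard : Nat.card W = p ^ w)
    (hφinj : ∀ x : W, (∀ ω, x ∈ (φ ω).ker) → x = 1) :
    w ≤ Fintype.card Ω ∧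
      ∃ s : Finset Ω, s.card ≤ w ∧ ∀ x : W, (∀ ω ∈ s, x ∈ (φ ω).ker) → x = 1 := by
  classical
  haveI := Fact.mk hp
  let Ker : Finset Ω → Subgroup W := fun s => ⨅ ω ∈ s, (φ ω).ker
  have hKer : ∀ s x, x ∈ Ker s ↔ ∀ ω ∈ s, x ∈ (φ ω).ker := fun s x => by
    simp only [Ker, Subgroup.mem_iInf]
  have hKins : ∀ s ω, Ker (insert ω s) = Ker s ⊓ (φ ω).ker := fun s ω => by
    simp only [Ker]
    rw [Finset.iInf_insert, inf_comm]
  have hwt : w ≤ Fintype.card Ω := by
    have h : ∀ s : Finset Ω, p ^ w ≤ Nat.card (Ker s) * p ^ s.card := by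
      intro s
      induction s using Finset.induction_on with
      | empty =>
        rw [Finset.card_empty, pow_zero, mul_one, show Ker ∅ = ⊤ by simp [Ker],
          Subgroup.card_top, hWcard]
      | insert ω s hω ih =>
        rw [Finset.card_insert_of_notMem hω, pow_succ', ← mul_assoc, hKins]
        exact ih.trans (Nat.mul_le_mul_right _ (card_le_card_ker_mul (φ ω) (Ker s) p hp.pos hWpow))
    have h1 : Ker Finset.univ = ⊥ := (Subgroup.eq_bot_iff_forall _).2 fun x hx =>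
      hφinj x fun ω => (hKer _ x).1 hx ω (Finset.mem_univ _)
    have := h Finset.univ
    rw [h1, Subgroup.card_bot, one_mul, Finset.card_univ] at this
    exact (Nat.pow_le_pow_iff_right hp.one_lt).1 this
  obtain ⟨s, hscard, hs⟩ : ∃ s : Finset Ω, s.card ≤ w ∧ Ker s = ⊥ := by
    have step : ∀ k, ∃ s : Finset Ω, s.card ≤ k ∧
        (Ker s = ⊥ ∨ Nat.card (Ker s) * p ^ k ≤ p ^ w) := by
      intro k
      induction k with
      | zero => exact ⟨∅, le_rfl, Or.inr (by
          rw [pow_zero, mul_one, ← hWcard]; exact Subgroup.card_le_card_group _)⟩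
      | succ k ih =>
        obtain ⟨s, hs, hb⟩ := ih
        rcases eq_or_ne (Ker s) ⊥ with h | h
        · exact ⟨s, hs.trans k.le_succ, Or.inl h⟩
        obtain ⟨x, hx, hx1⟩ := (Subgroup.bot_or_exists_ne_one _).resolve_left h
        obtain ⟨ω, hω⟩ := not_forall.1 fun h => hx1 (hφinj x h)
        refine ⟨insert ω s, (Finset.card_insert_le _ _).trans (Nat.succ_le_succ hs), Or.inr ?_⟩
        rw [hKins]
        set L := Ker s ⊓ (φ ω).ker
        have hle : L ≤ Ker s := inf_le_left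
        have h1 := Subgroup.card_mul_index (L.subgroupOf (Ker s))
        rw [Nat.card_congr (Subgroup.subgroupOfEquivOfLe hle).toEquiv] at h1
        have hne : (L.subgroupOf (Ker s)).index ≠ 1 := fun h2 => hω
          ((Subgroup.subgroupOf_eq_top.1 (Subgroup.index_eq_one.1 h2)) hx).2
        have hpG : IsPGroup p ↥(Ker s) := fun y =>
          ⟨1, by rw [pow_one]; exact Subtype.ext (hWpow y)⟩
        obtain ⟨j, hj⟩ := hpG.index (L.subgroupOf (Ker s))
        have hj0 : j ≠ 0 := fun h2 => hne (by rw [hj, h2, pow_zero])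
        have hp_le : p ≤ (L.subgroupOf (Ker s)).index := hj ▸ Nat.le_self_pow hj0 p
        calc Nat.card L * p ^ (k + 1) = Nat.card L * p * p ^ k := by rw [pow_succ', mul_assoc]
          _ ≤ Nat.card (Ker s) * p ^ k :=
            Nat.mul_le_mul_right _ ((Nat.mul_le_mul_left _ hp_le).trans h1.le)
          _ ≤ p ^ w := hb.resolve_left h
    obtain ⟨s, hs, hb⟩ := step w
    refine ⟨s, hs, hb.elim id fun h => Subgroup.eq_bot_of_card_le _ ?_⟩
    exact Nat.le_of_mul_le_mul_right (h.trans_eq (one_mul _).symm) (pow_pos hp.pos _)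
  exact ⟨hwt, s, hscard, fun x hx => by
    have := (hKer s x).2 hx
    rwa [hs, Subgroup.mem_bot] at this⟩

theorem sigma_map_eq {Ω : Type u} {P : Type u} (π : P → Ω → Ω) {F : Ω → Ω → Type u}
    {a b : P} {f : ∀ ω, F ω (π a ω)} {g : ∀ ω, F ω (π b ω)}
    (h : (⟨a, f⟩ : Σ a : P, ∀ ω, F ω (π a ω)) = ⟨b, g⟩) (ω : Ω) :
    (⟨π a ω, f ω⟩ : Σ μ, F ω μ) = ⟨π b ω, g ω⟩ := by
  cases h
  rfl

namespace RingAct

variable {H : Type u} [Group H] {V : Type u} [AddCommGroup V] [DistribMulAction H V]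
  {R : Type u} [CommRing R] (D : RingAct H V R) [Finite R] [IsReduced R]

theorem exists_act_eq [Finite H] (hirr : Irr H V) (ω₀ : MaximalSpectrum R) :
    ∀ ω, ∃ g, D.act g ω₀ = ω := by
  classical
  haveI := Fintype.ofFinite H
  letI : Fintype (MaximalSpectrum R) := Fintype.ofFinite _
  intro ω
  by_contra hno
  push Not at hno
  set O := (Finset.univ : Finset H).image fun g => D.act g ω₀ with hO
  set e := ∑ μ ∈ O, RingAct.idem μ with he
  have hOmem : ∀ μ, μ ∈ O ↔ ∃ g, D.act g ω₀ = μ := fun μ => by simp [hO]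
  have hfix : ∀ g, D.σ g e = e := by
    intro g
    rw [he, map_sum]
    simp only [D.σ_idem]
    refine Finset.sum_equiv (D.perm g) (fun μ => ?_) (fun _ _ => rfl)
    rw [hOmem, hOmem]
    constructor
    · rintro ⟨h, rfl⟩; exact ⟨g * h, D.act_mul g h ω₀⟩
    · rintro ⟨h, hh⟩
      refine ⟨g⁻¹ * h, ?_⟩
      rw [D.act_mul, hh]
      exact (D.perm g).symm_apply_apply μ
  have hee : e * e = e := by
    rw [he, Finset.sum_mul]
    refine Finset.sum_congr rfl fun μ hμ => ?_
    rw [Finset.mul_sum, Finset.sum_eq_single μ (fun ν _ hne => RingAct.idem_mul_idem hne)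
      (fun h => absurd hμ h), RingAct.idem_mul_self]
  have he0 : RingAct.idem ω₀ * e = RingAct.idem ω₀ := by
    rw [he, Finset.mul_sum, Finset.sum_eq_single ω₀ (fun ν _ hne => RingAct.idem_mul_idem hne)
      (fun h => absurd ((hOmem ω₀).2 ⟨1, D.act_one ω₀⟩) h), RingAct.idem_mul_self]
  rcases hirr ((D.ι e : V →+ V).range) (by
    rintro g _ ⟨v, rfl⟩
    refine ⟨g • v, ?_⟩
    show D.ι e (g • v) = g • D.ι e v
    rw [D.smul_ι, hfix]) with h | h
  · refine RingAct.idem_ne_zero ω₀ ?_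
    rw [← he0, D.ext_ι (x := e) (y := 0) fun v => by
      rw [D.ι_zero]; exact AddSubgroup.mem_bot.1 (h ▸ AddMonoidHom.mem_range.2 ⟨v, rfl⟩),
      mul_zero]
  · have he1 : e = 1 := D.ext_ι fun v => by
      obtain ⟨u, hu⟩ : v ∈ (D.ι e : V →+ V).range := h ▸ AddSubgroup.mem_top v
      replace hu : D.ι e u = v := hu
      rw [← hu, ← D.ι_mul, hee, D.ι_one]
    refine RingAct.idem_ne_zero ω ?_
    rw [← mul_one (RingAct.idem ω), ← he1, he, Finset.mul_sum]
    refine Finset.sum_eq_zero fun μ hμ => RingAct.idem_mul_idem fun hμω => ?_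
    obtain ⟨g, hg⟩ := (hOmem μ).1 hμ
    exact hno g (hg.trans hμω)

theorem exists_card [Finite V] (r : ℕ) [Fact r.Prime] [CharP R r] (ω₀ : MaximalSpectrum R)
    [Fintype (MaximalSpectrum R)] (htr : ∀ ω, ∃ g, D.act g ω₀ = ω) :
    ∃ d m : ℕ, 0 < d ∧ 0 < m ∧ Nat.card V = r ^ (d * m * Fintype.card (MaximalSpectrum R)) ∧
      (∀ ω : MaximalSpectrum R, Nat.card (R ⧸ ω.asIdeal) = r ^ d) ∧
      ∀ ω : MaximalSpectrum R, Module.finrank (R ⧸ ω.asIdeal) (D.U ω) = m := by
  classical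
  have hr : r.Prime := Fact.out
  letI fK : ∀ ω : MaximalSpectrum R, Field (R ⧸ ω.asIdeal) := fun ω =>
    @Ideal.Quotient.field R _ ω.asIdeal ω.isMaximal
  haveI hfin : ∀ ω : MaximalSpectrum R, Finite (R ⧸ ω.asIdeal) := fun ω =>
    Finite.of_surjective _ Ideal.Quotient.mk_surjective
  haveI hchar : ∀ ω : MaximalSpectrum R, CharP (R ⧸ ω.asIdeal) r := fun ω =>
    (CharP.charP_iff_prime_eq_zero hr).2 (by
      rw [← map_natCast (Ideal.Quotient.mk ω.asIdeal), CharP.cast_eq_zero, map_zero])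
  let ψ : ∀ (h : H) (ω : MaximalSpectrum R),
      (R ⧸ ω.asIdeal) →+* (R ⧸ (D.act h ω).asIdeal) := fun h ω =>
    Ideal.quotientMap _ (D.σ h) fun x hx => D.σ_mem_act.2 hx
  have hψbij : ∀ h ω, Function.Bijective (ψ h ω) := fun h ω => by
    refine ⟨(ψ h ω).injective, fun y => ?_⟩
    obtain ⟨x, rfl⟩ := Ideal.Quotient.mk_surjective y
    exact ⟨Ideal.Quotient.mk _ (D.σ h⁻¹ x), by
      show Ideal.Quotient.mk _ (D.σ h (D.σ h⁻¹ x)) = _
      rw [D.σ_σ_inv]⟩
  obtain ⟨d, hd0, hd⟩ : ∃ d, 0 < d ∧ Nat.card (R ⧸ ω₀.asIdeal) = r ^ d := by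
    haveI := Fintype.ofFinite (R ⧸ ω₀.asIdeal)
    obtain ⟨n, -, hn⟩ := FiniteField.card (R ⧸ ω₀.asIdeal) r
    exact ⟨n, n.pos, by rw [Nat.card_eq_fintype_card, hn]⟩
  have hcardK : ∀ ω : MaximalSpectrum R, Nat.card (R ⧸ ω.asIdeal) = r ^ d := fun ω => by
    obtain ⟨g, rfl⟩ := htr ω
    rw [← hd]
    exact (Nat.card_eq_of_bijective _ (hψbij g ω₀)).symm
  have hrd : 1 < r ^ d := Nat.one_lt_pow hd0.ne' hr.one_lt
  obtain ⟨m, hm⟩ : ∃ m, Module.finrank (R ⧸ ω₀.asIdeal) (D.U ω₀) = m := ⟨_, rfl⟩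
  have hcardU : ∀ ω, Nat.card (D.U ω) = r ^ (d * m) := by
    intro ω
    obtain ⟨g, rfl⟩ := htr ω
    have e : D.U ω₀ ≃ D.U (D.act g ω₀) :=
      { toFun := fun v => ⟨g • (v : V), D.smul_mem_U g v.2⟩
        invFun := fun v => ⟨g⁻¹ • (v : V), by
          have := D.smul_mem_U g⁻¹ v.2
          rwa [← D.act_mul, inv_mul_cancel, D.act_one] at this⟩
        left_inv := fun v => Subtype.ext (inv_smul_smul g (v : V))
        right_inv := fun v => Subtype.ext (smul_inv_smul g (v : V)) }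
    rw [← Nat.card_congr e, Module.natCard_eq_pow_finrank (K := R ⧸ ω₀.asIdeal), hm, hd, ← pow_mul]
  have hfinrank : ∀ ω, Module.finrank (R ⧸ ω.asIdeal) (D.U ω) = m := by
    intro ω
    have h := Module.natCard_eq_pow_finrank (K := R ⧸ ω.asIdeal) (V := D.U ω)
    rw [hcardU, hcardK, ← pow_mul] at h
    exact (Nat.eq_of_mul_eq_mul_left hd0 (Nat.pow_right_injective hr.two_le h)).symm
  haveI hUnt : ∀ ω, Nontrivial (D.U ω) := fun ω =>
    (AddSubgroup.nontrivial_iff_ne_bot _).2 (D.U_ne_bot ω)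
  have hm0 : 0 < m := hm ▸ Module.finrank_pos
  have hcardV : Nat.card V = r ^ (d * m * Fintype.card (MaximalSpectrum R)) := by
    let e : V ≃ ∀ ω, D.U ω :=
      { toFun := fun v ω => ⟨D.ι (RingAct.idem ω) v, D.idem_apply_mem ω v⟩
        invFun := fun f => ∑ ω, (f ω : V)
        left_inv := fun v => D.sum_ι_idem v
        right_inv := fun f => funext fun ω => Subtype.ext (by
          show D.ι (RingAct.idem ω) (∑ μ, (f μ : V)) = f ω
          rw [map_sum, Finset.sum_eq_single ω (fun μ _ hne => D.ι_idem_of_mem hne (f μ).2)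
            (fun h => absurd (Finset.mem_univ _) h)]
          exact D.mem_U.1 (f ω).2) }
    rw [Nat.card_congr e, Nat.card_pi, Finset.prod_congr rfl fun ω _ => hcardU ω, Finset.prod_const,
      Finset.card_univ, ← pow_mul]
  exact ⟨d, m, hd0, hm0, hcardV, hcardK, hfinrank⟩

include D in
theorem exists_quotient_injection [Finite V] [Finite H] [Fintype (MaximalSpectrum R)] :
    Fintype.card (MaximalSpectrum R) + 1 ≤ Nat.card (MulAction.orbitRel.Quotient H V) := by
  classical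
  set t := Fintype.card (MaximalSpectrum R) with ht
  have hN : ∀ (g : H) (v : V),
      (Finset.univ.filter fun ω => D.ι (RingAct.idem ω) (g • v) ≠ 0).card =
        (Finset.univ.filter fun ω => D.ι (RingAct.idem ω) v ≠ 0).card := by
    intro g v
    refine (Finset.card_equiv (D.perm g) fun ω => ?_).symm
    simp only [Finset.mem_filter, Finset.mem_univ, true_and]
    show _ ↔ D.ι (RingAct.idem (D.act g ω)) (g • v) ≠ 0
    rw [D.ι_idem_smul, Ne, Ne, smul_eq_zero_iff_eq]
  choose x hxU hx0 using fun ω =>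
    (AddSubgroup.bot_or_exists_ne_zero (D.U ω)).resolve_left (D.U_ne_bot ω)
  have hv : ∀ k : Fin (t + 1), ∃ v : V,
      (Finset.univ.filter fun ω => D.ι (RingAct.idem ω) v ≠ 0).card = k := by
    intro k
    obtain ⟨S, -, hS⟩ := Finset.exists_subset_card_eq
      (s := (Finset.univ : Finset (MaximalSpectrum R))) (n := k)
      (by rw [Finset.card_univ, ← ht]; omega)
    refine ⟨∑ μ ∈ S, x μ, ?_⟩
    rw [← hS]
    congr 1
    ext ω
    simp only [Finset.mem_filter, Finset.mem_univ, true_and]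
    rw [map_sum]
    by_cases hω : ω ∈ S
    · rw [Finset.sum_eq_single ω (fun μ _ hne => D.ι_idem_of_mem hne (hxU μ))
        (fun h => absurd hω h), D.mem_U.1 (hxU ω)]
      exact iff_of_true (hx0 ω) hω
    · rw [Finset.sum_eq_zero fun μ hμ => D.ι_idem_of_mem (fun h : μ = ω => hω (h ▸ hμ)) (hxU μ)]
      exact iff_of_false (fun h => h rfl) hω
  choose v hv using hv
  have h := Nat.card_le_card_of_injective
    (fun k : Fin (t + 1) => (Quotient.mk'' (v k) : MulAction.orbitRel.Quotient H V))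
    fun k k' h => by
      obtain ⟨g, hg⟩ := (Quotient.eq''.1 h : v k ∈ MulAction.orbit H (v k'))
      refine Fin.ext ?_
      rw [← hv k, ← hv k', ← hg]
      exact hN g (v k')
  rwa [Nat.card_fin] at h

theorem card_range_perm [Finite H] (hsol : Group.IsSolvable H)
    (hcol : Cfsg.Agent.H86.BaseThree.ColourAll.{u}) (ω₀ : MaximalSpectrum R)
    [Fintype (MaximalSpectrum R)] :
    5 * Nat.card D.perm.range ≤ 5 ^ Fintype.card (MaximalSpectrum R) := by
  classical
  letI := MulAction.compHom (MaximalSpectrum R) D.perm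
  haveI : Nonempty (MaximalSpectrum R) := ⟨ω₀⟩
  obtain ⟨c, hc⟩ := hcol H (MaximalSpectrum R) hsol
  have hle := Nat.card_le_card_of_injective
    (fun q : Fin 5 × D.perm.range => fun ω => c q.1 ((q.2 : Equiv.Perm _).symm ω))
    (fun ⟨i, π, g, hg⟩ ⟨j, π', g', hg'⟩ h => by
      obtain ⟨hij, hfix⟩ := hc i j (g'⁻¹ * g) fun ω => by
        have h1 := congrFun h (π ω)
        simp only [Equiv.symm_apply_apply] at h1
        refine Eq.trans (congrArg (c j) ?_) h1.symm
        show D.perm (g'⁻¹ * g) ω = π'.symm (π ω)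
        rw [map_mul, map_inv, hg, hg']
        rfl
      subst hij
      refine Prod.ext rfl (Subtype.ext ?_)
      show π = π'
      have h2 : D.perm (g'⁻¹ * g) = 1 := Equiv.ext hfix
      rw [map_mul, map_inv, hg, hg', inv_mul_eq_one] at h2
      exact h2.symm)
  rw [Nat.card_prod, Nat.card_fin, Nat.card_fun, Nat.card_fin, Nat.card_eq_fintype_card
    (α := MaximalSpectrum R)] at hle
  exact hle

theorem exists_abelian [Finite V] [Finite H] (hlin : LinAbelian.{u}) (hsol : Group.IsSolvable H)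
    (C : Subgroup H) (hCR : CR C V) (hCfix : ∀ c ∈ C, ∀ x : R, D.σ c x = x)
    (hgen : ∀ Y : AddSubgroup V, Inv C V Y → ∀ x : R, ∀ v ∈ Y, D.ι x v ∈ Y)
    (ω : MaximalSpectrum R) (m : ℕ) (hm : Module.finrank (R ⧸ ω.asIdeal) (D.U ω) = m) :
    ∃ B : Subgroup C, 16 * B.index ≤ 16 ^ m ∧
      ∀ a ∈ B, ∀ b ∈ B, ∀ v ∈ D.U ω, (a : H) • (b : H) • v = (b : H) • (a : H) • v := by
  haveI := hsol
  letI : Field (R ⧸ ω.asIdeal) := @Ideal.Quotient.field R _ ω.asIdeal ω.isMaximal
  haveI : Finite (R ⧸ ω.asIdeal) := Finite.of_surjective _ Ideal.Quotient.mk_surjective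
  haveI : Nontrivial (D.U ω) := (AddSubgroup.nontrivial_iff_ne_bot _).2 (D.U_ne_bot ω)
  have hCσ : ∀ (c : C) (x : R) (v : V), (c : H) • D.ι x v = D.ι x ((c : H) • v) := fun c x v => by
    rw [D.smul_ι, hCfix c c.2]
  have hCU : ∀ (c : C) ω, ∀ v ∈ D.U ω, (c : H) • v ∈ D.U ω := by
    intro c ω v hv
    rw [D.mem_U, ← hCσ, D.mem_U.1 hv]
  let ρ : C →* (D.U ω ≃ₗ[R ⧸ ω.asIdeal] D.U ω) :=
    { toFun := fun c =>
        { toFun := fun v => ⟨(c : H) • (v : V), hCU c ω v v.2⟩
          invFun := fun v => ⟨((c⁻¹ : C) : H) • (v : V), hCU _ ω v v.2⟩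
          left_inv := fun v => Subtype.ext (by simp)
          right_inv := fun v => Subtype.ext (by simp)
          map_add' := fun u v => Subtype.ext (smul_add (c : H) (u : V) v)
          map_smul' := fun k v => by
            obtain ⟨x, rfl⟩ := Ideal.Quotient.mk_surjective k
            exact Subtype.ext (hCσ c x v) }
      map_one' := LinearEquiv.ext fun v => Subtype.ext (one_smul H (v : V))
      map_mul' := fun a b => LinearEquiv.ext fun v => Subtype.ext (mul_smul (a : H) b (v : V)) }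
  let sc : (R ⧸ ω.asIdeal)ˣ →* (D.U ω ≃ₗ[R ⧸ ω.asIdeal] D.U ω) :=
    DistribMulAction.toModuleAut (R ⧸ ω.asIdeal) (D.U ω)
  have hcomm : ∀ (c : C) k, Commute (ρ c) (sc k) := fun c k =>
    LinearEquiv.ext fun v => (ρ c).map_smul (k : R ⧸ ω.asIdeal) v
  let f := ρ.noncommCoprod sc hcomm
  let G' := f.range
  haveI : Finite (D.U ω ≃ₗ[R ⧸ ω.asIdeal] D.U ω) :=
    Finite.of_injective _ DFunLike.coe_injective
  haveI : Group.IsSolvable C := inferInstance
  have hG's : Group.IsSolvable G' :=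
    Group.isSolvable_of_surjective f.rangeRestrict_surjective
  obtain ⟨A, hAab, hAi⟩ := hlin (R ⧸ ω.asIdeal) G' (D.U ω) hG's
    (fun g k v => (g : D.U ω ≃ₗ[R ⧸ ω.asIdeal] D.U ω).map_smul k v)
    (fun k hk => ⟨⟨f (1, Units.mk0 k hk), _, rfl⟩, fun v => by
      show f (1, Units.mk0 k hk) v = k • v
      rw [MonoidHom.noncommCoprod_apply, map_one, one_mul]
      rfl⟩)
    (by
      intro X hX
      let X' := X.map (D.U ω).subtype
      have hX' : Inv C V X' := by
        rintro c _ ⟨v, hv, rfl⟩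
        refine ⟨ρ c v, ?_, rfl⟩
        have := hX ⟨f (c, 1), _, rfl⟩ v hv
        change f (c, 1) v ∈ X at this
        rwa [MonoidHom.noncommCoprod_apply, map_one, mul_one] at this
      obtain ⟨Y, hY, hXY, hsup⟩ := hCR X' hX'
      have hYR : ∀ (x : R), ∀ v ∈ Y, D.ι x v ∈ Y := hgen Y hY
      refine ⟨Y.comap (D.U ω).subtype, ?_, ?_, ?_⟩
      · rintro ⟨_, ⟨c, k⟩, rfl⟩ v hv
        show ((f (c, k) v : D.U ω) : V) ∈ Y
        rw [MonoidHom.noncommCoprod_apply]
        obtain ⟨x, hx⟩ := Ideal.Quotient.mk_surjective (k : R ⧸ ω.asIdeal)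
        show (c : H) • ((((k : R ⧸ ω.asIdeal) • v : D.U ω)) : V) ∈ Y
        rw [← hx, D.mk_smul]
        exact hY c _ (hYR x _ hv)
      · refine (AddSubgroup.eq_bot_iff_forall _).2 fun v hv => Subtype.ext ?_
        have : (v : V) ∈ X' ⊓ Y := ⟨⟨v, hv.1, rfl⟩, hv.2⟩
        rw [hXY, AddSubgroup.mem_bot] at this
        exact this
      · refine eq_top_iff.2 fun v _ => ?_
        have hv : (v : V) ∈ X' ⊔ Y := hsup ▸ AddSubgroup.mem_top _
        obtain ⟨_, ⟨y, hy, rfl⟩, z, hz, he⟩ := AddSubgroup.mem_sup.1 hv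
        have hzU : z ∈ D.U ω := by
          rw [show z = (v : V) - y from eq_sub_of_add_eq' he]
          exact sub_mem v.2 y.2
        exact AddSubgroup.mem_sup.2 ⟨y, hy, ⟨z, hzU⟩, hz, Subtype.ext he⟩)
  rw [hm] at hAi
  let θ : C →* G' := f.rangeRestrict.comp (MonoidHom.inl C (R ⧸ ω.asIdeal)ˣ)
  refine ⟨A.comap θ, le_trans (Nat.mul_le_mul_left _ ?_) hAi, ?_⟩
  · rw [Subgroup.index_comap, ← Subgroup.relIndex_top_right]
    exact Subgroup.relIndex_le_of_le_right le_top
      (by rw [Subgroup.relIndex_top_right]; exact Subgroup.index_ne_zero_of_finite)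
  · intro a ha b hb v hv
    have h := congrArg (fun g : G' => (((g • (⟨v, hv⟩ : D.U ω)) : D.U ω) : V))
      (hAab _ ha _ hb)
    have hθ : ∀ (c : C) (u : D.U ω), ((θ c • u : D.U ω) : V) = (c : H) • (u : V) := by
      intro c u
      show ((f (c, 1) u : D.U ω) : V) = _
      rw [MonoidHom.noncommCoprod_apply, map_one, mul_one]
      rfl
    rw [mul_smul, mul_smul, hθ, hθ, hθ, hθ] at h
    exact h

theorem index_le_pow [Finite H] [Fintype (MaximalSpectrum R)] (r d w : ℕ) [Fact r.Prime]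
    [CharP R r] (hd0 : 0 < d) (hd : ∀ ω : MaximalSpectrum R, Nat.card (R ⧸ ω.asIdeal) = r ^ d)
    (C : Subgroup H) (s : Finset (MaximalSpectrum R)) (hscard : s.card ≤ w)
    (hmemC : ∀ g : H, (∀ ω ∈ s, ∀ x : R, D.σ g x - x ∈ ω.asIdeal) → g ∈ C)
    (hperm : 5 * Nat.card D.perm.range ≤ 5 ^ Fintype.card (MaximalSpectrum R))
    (ω₀ : MaximalSpectrum R) :
    C.index ≤ (Fintype.card (MaximalSpectrum R) * d) ^ w ∧
      C.index ≤ d ^ Fintype.card (MaximalSpectrum R) * 5 ^ (Fintype.card (MaximalSpectrum R) - 1) := by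
  classical
  have hr : r.Prime := Fact.out
  set t := Fintype.card (MaximalSpectrum R) with ht
  have ht0 : 0 < t := Fintype.card_pos_iff.2 ⟨ω₀⟩
  letI fK : ∀ ω : MaximalSpectrum R, Field (R ⧸ ω.asIdeal) := fun ω =>
    @Ideal.Quotient.field R _ ω.asIdeal ω.isMaximal
  haveI hfin : ∀ ω : MaximalSpectrum R, Finite (R ⧸ ω.asIdeal) := fun ω =>
    Finite.of_surjective _ Ideal.Quotient.mk_surjective
  haveI hchar : ∀ ω : MaximalSpectrum R, CharP (R ⧸ ω.asIdeal) r := fun ω =>
    (CharP.charP_iff_prime_eq_zero hr).2 (by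
      rw [← map_natCast (Ideal.Quotient.mk ω.asIdeal), CharP.cast_eq_zero, map_zero])
  let ψ : ∀ (h : H) (ω : MaximalSpectrum R),
      (R ⧸ ω.asIdeal) →+* (R ⧸ (D.perm h ω).asIdeal) := fun h ω =>
    Ideal.quotientMap _ (D.σ h) fun x hx => D.σ_mem_act.2 hx
  let Φ : ∀ ω : MaximalSpectrum R,
      (Σ μ : MaximalSpectrum R, (R ⧸ ω.asIdeal) →+* (R ⧸ μ.asIdeal)) → R → Set R :=
    fun ω q x => {y | Ideal.Quotient.mk q.1.asIdeal y = q.2 (Ideal.Quotient.mk ω.asIdeal x)}
  let dat : H → ∀ ω : MaximalSpectrum R, Σ μ : MaximalSpectrum R,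
      (R ⧸ ω.asIdeal) →+* (R ⧸ μ.asIdeal) := fun g ω => ⟨D.perm g ω, ψ g ω⟩
  have hdat : ∀ g g' : H, (∀ ω ∈ s, dat g ω = dat g' ω) → g'⁻¹ * g ∈ C := by
    intro g g' h
    refine hmemC _ fun ω hω x => ?_
    have h1 : D.σ g x ∈ Φ ω (dat g ω) x := rfl
    rw [h ω hω] at h1
    have h2 : Ideal.Quotient.mk (D.perm g' ω).asIdeal (D.σ g x) =
        Ideal.Quotient.mk (D.perm g' ω).asIdeal (D.σ g' x) := h1
    rw [Ideal.Quotient.mk_eq_mk_iff_sub_mem] at h2
    have h3 : D.σ g'⁻¹ (D.σ g x - D.σ g' x) ∈ ω.asIdeal := h2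
    rw [map_sub, D.σ_inv_σ] at h3
    rw [D.σ_mul]
    exact h3
  have hout : ∀ c c' : H ⧸ C, c'.out⁻¹ * c.out ∈ C → c = c' := fun c c' h => by
    rw [← Quotient.out_eq' c, ← Quotient.out_eq' c']
    exact (QuotientGroup.eq.2 h).symm
  have hhom : ∀ ω μ : MaximalSpectrum R,
      Nat.card ((R ⧸ ω.asIdeal) →+* (R ⧸ μ.asIdeal)) ≤ d ∧
        Finite ((R ⧸ ω.asIdeal) →+* (R ⧸ μ.asIdeal)) := fun ω μ =>
    card_ringHom_le r d (hd ω)
  haveI : ∀ ω μ : MaximalSpectrum R, Finite ((R ⧸ ω.asIdeal) →+* (R ⧸ μ.asIdeal)) :=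
    fun ω μ => (hhom ω μ).2
  have hind1 : C.index ≤ (t * d) ^ w := by
    have h1 : C.index ≤ Nat.card (∀ ω : s, Σ μ : MaximalSpectrum R,
        (R ⧸ (ω : MaximalSpectrum R).asIdeal) →+* (R ⧸ μ.asIdeal)) :=
      Nat.card_le_card_of_injective (α := H ⧸ C) (fun c ω => dat c.out ω) fun c c' h =>
        hout c c' (hdat _ _ fun ω hω => congrFun h ⟨ω, hω⟩)
    refine h1.trans ?_
    rw [Nat.card_pi]
    refine (Finset.prod_le_pow_card _ _ (t * d) fun ω _ => ?_).trans ?_
    · rw [Nat.card_sigma]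
      exact (Finset.sum_le_card_nsmul _ _ d fun μ _ => (hhom _ μ).1).trans_eq
        (by rw [Finset.card_univ, smul_eq_mul])
    · rw [Finset.card_univ, Fintype.card_coe]
      exact Nat.pow_le_pow_right (Nat.mul_pos ht0 hd0) hscard
  have hind2 : C.index ≤ d ^ t * 5 ^ (t - 1) := by
    let F : MaximalSpectrum R → MaximalSpectrum R → Type u := fun ω μ =>
      (R ⧸ ω.asIdeal) →+* (R ⧸ μ.asIdeal)
    let π₀ : D.perm.range → MaximalSpectrum R → MaximalSpectrum R := fun a ω =>
      (a : Equiv.Perm (MaximalSpectrum R)) ω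
    let elt : H → D.perm.range := fun g => ⟨D.perm g, g, rfl⟩
    have h1 : C.index ≤ Nat.card (Σ a : D.perm.range, ∀ ω : MaximalSpectrum R, F ω (π₀ a ω)) :=
      Nat.card_le_card_of_injective (α := H ⧸ C)
        (fun c => ⟨elt c.out, fun ω => ψ c.out ω⟩) fun c c' h => by
          refine hout c c' (hdat _ _ fun ω _ => ?_)
          exact sigma_map_eq π₀ (F := F) h ω
    refine h1.trans ?_
    haveI := Fintype.ofFinite D.perm.range
    rw [Nat.card_sigma]
    refine (Finset.sum_le_card_nsmul _ _ (d ^ t) fun π _ => ?_).trans ?_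
    · rw [Nat.card_pi]
      exact (Finset.prod_le_pow_card _ _ d fun ω _ => (hhom ω _).1).trans_eq
        (by rw [Finset.card_univ])
    · rw [Finset.card_univ, ← Nat.card_eq_fintype_card, smul_eq_mul, mul_comm]
      refine Nat.mul_le_mul_left _ ?_
      refine Nat.le_of_mul_le_mul_left (hperm.trans_eq ?_) (by norm_num : 0 < 5)
      rw [← pow_succ', Nat.sub_add_cancel ht0]
  exact ⟨hind1, hind2⟩

end RingAct

theorem compData (hlin : LinAbelian.{u})
    (hcol : Cfsg.Agent.H86.BaseThree.ColourAll.{u}) : CompData.{u} := by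
  classical
  intro H _ _ V _ _ _ _ _ W _ p r w hsol hirr hp hr hrp hrV hWab hWp hWcard hw
  haveI := Fact.mk hr
  haveI := Fact.mk hp
  haveI : Finite (AddMonoid.End V) :=
    Finite.of_injective (fun f : V →+ V => ⇑f) DFunLike.coe_injective
  haveI : Nontrivial (AddMonoid.End V) := ⟨1, 0, fun e => by
    obtain ⟨v, hv⟩ := exists_ne (0 : V)
    exact hv (DFunLike.congr_fun e v)⟩
  haveI : CharP (AddMonoid.End V) r := (CharP.charP_iff_prime_eq_zero hr).2
    (AddMonoidHom.ext fun v => (AddMonoid.End.natCast_apply r v).trans (hrV v))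
  set act := DistribMulAction.toAddMonoidEnd H V with hact
  have hactinj : ∀ a b : H, act a = act b → a = b := fun a b h =>
    eq_of_smul_eq_smul (α := V) fun v => DFunLike.congr_fun h v
  -- the ring
  obtain ⟨N, hN0, hN⟩ : ∃ N, 0 < N ∧ ∀ x ∈ W, x ^ r ^ N = x := by
    refine ⟨p.totient, Nat.totient_pos.2 hp.pos, fun x hx => ?_⟩
    have h1 : r ^ p.totient ≡ 1 [MOD p] :=
      Nat.ModEq.pow_totient ((Nat.coprime_primes hr hp).2 hrp)
    have h2 : p ∣ r ^ p.totient - 1 := (Nat.modEq_iff_dvd' (Nat.one_le_pow _ _ hr.pos)).1 h1.symm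
    obtain ⟨k, hk⟩ := h2
    have h3 : r ^ p.totient = p * k + 1 := by
      have := Nat.one_le_pow p.totient r hr.pos
      omega
    rw [h3, pow_succ, pow_mul, hWp x hx, one_pow, one_mul]
  obtain ⟨hRc, hRf⟩ := AbOrbit.closure_frobenius (p := r) (act '' (W : Set H)) N
    (by rintro _ ⟨a, ha, rfl⟩ _ ⟨b, hb, rfl⟩; rw [← map_mul, ← map_mul, hWab a ha b hb])
    (by rintro _ ⟨a, ha, rfl⟩; rw [← map_pow, hN a ha])
  let R := nRing V W
  letI : CommRing R :=
    { (inferInstance : Ring R) with mul_comm := fun x y => Subtype.ext (hRc _ x.2 _ y.2) }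
  haveI : Finite R := Finite.of_injective _ Subtype.val_injective
  haveI : Nontrivial R := ⟨1, 0, fun e => one_ne_zero (congrArg Subtype.val e :)⟩
  haveI : CharP R r := (CharP.charP_iff_prime_eq_zero hr).2 (Subtype.ext (by
    show ((r : R) : AddMonoid.End V) = 0
    rw [show ((r : R) : AddMonoid.End V) = (r : AddMonoid.End V) from map_natCast R.subtype r,
      CharP.cast_eq_zero]))
  haveI : IsReduced R := ⟨fun x ⟨k, hk⟩ => by
    have h1 : ∀ j, x ^ (r ^ N) ^ j = x := by
      intro j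
      induction j with
      | zero => rw [pow_zero, pow_one]
      | succ j ih =>
        rw [pow_succ, pow_mul, ih]
        exact Subtype.ext (by rw [SubmonoidClass.coe_pow]; exact hRf _ x.2)
    have hN2 : 2 ≤ r ^ N := calc
      2 ≤ r ^ 1 := by rw [pow_one]; exact hr.two_le
      _ ≤ r ^ N := Nat.pow_le_pow_right hr.pos hN0
    rw [← h1 k]
    exact pow_eq_zero_of_le (le_of_lt ((k.lt_two_pow_self).trans_le (Nat.pow_le_pow_left hN2 k))) hk⟩
  let D : RingAct H V R :=
    { ι := R.subtype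
      inj := Subtype.val_injective
      σ := fun g => (conjEnd V g).restrict R R fun a ha => conjEnd_mem g ha
      smul_ι := fun g x v => by
        show g • (x : AddMonoid.End V) v = conjEnd V g (x : AddMonoid.End V) (g • v)
        rw [conjEnd_apply, inv_smul_smul] }
  let el : W → R := fun x => ⟨act (x : H), act_mem_nRing x.2⟩
  have hel : ∀ (x : W) (v : V), D.ι (el x) v = (x : H) • v := fun _ _ => rfl
  have helmul : ∀ x y : W, el (x * y) = el x * el y := fun x y => Subtype.ext (map_mul act _ _)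
  have helone : el 1 = 1 := Subtype.ext (map_one act)
  have hconj : ∀ (g : H) (x : W),
      D.σ g (el x) = el ⟨g * x * g⁻¹, Subgroup.Normal.conj_mem inferInstance _ x.2 g⟩ := by
    intro g x
    refine Subtype.ext ?_
    exact ((map_mul act (g * x) g⁻¹).trans (congrArg (· * _) (map_mul act g x))).symm
  haveI := hsol
  haveI := Fintype.ofFinite H
  letI : Fintype (MaximalSpectrum R) := Fintype.ofFinite _
  obtain ⟨ω₀⟩ : Nonempty (MaximalSpectrum R) := by
    obtain ⟨M, hM⟩ := Ideal.exists_maximal R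
    exact ⟨⟨M, hM⟩⟩
  obtain ⟨d, m, hd0, hm0, hcardV, hcardK, hfinrank⟩ :=
    D.exists_card r ω₀ (D.exists_act_eq hirr ω₀)
  set t := Fintype.card (MaximalSpectrum R) with ht
  have ht0 : 0 < t := Fintype.card_pos_iff.2 ⟨ω₀⟩
  letI fK : ∀ ω : MaximalSpectrum R, Field (R ⧸ ω.asIdeal) := fun ω =>
    @Ideal.Quotient.field R _ ω.asIdeal ω.isMaximal
  haveI hfin : ∀ ω : MaximalSpectrum R, Finite (R ⧸ ω.asIdeal) := fun ω =>
    Finite.of_surjective _ Ideal.Quotient.mk_surjective
  let φ : ∀ ω : MaximalSpectrum R, W →* (R ⧸ ω.asIdeal)ˣ := fun ω =>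
    MonoidHom.toHomUnits
      { toFun := fun x => Ideal.Quotient.mk ω.asIdeal (el x)
        map_one' := by rw [helone, map_one]
        map_mul' := fun x y => by rw [helmul, map_mul] }
  have hφker : ∀ ω (x : W), x ∈ (φ ω).ker ↔ el x - 1 ∈ ω.asIdeal := fun ω x => by
    rw [← Ideal.Quotient.mk_eq_mk_iff_sub_mem, MonoidHom.mem_ker, Units.ext_iff]
    exact ⟨fun h => h.trans (map_one _).symm, fun h => h.trans (map_one _)⟩
  have hφinj : ∀ x : W, (∀ ω, x ∈ (φ ω).ker) → x = 1 := fun x h => by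
    have h1 : el x = 1 := RingAct.ext_mod fun ω => (hφker ω x).1 (h ω)
    exact Subtype.ext (hactinj _ _ ((congrArg Subtype.val h1).trans (map_one act).symm))
  have hWpow : ∀ x : W, x ^ p = 1 := fun x => Subtype.ext (hWp x x.2)
  obtain ⟨hwt, s, hscard, hs⟩ :=
    exists_separating (fun ω : MaximalSpectrum R => R ⧸ ω.asIdeal) φ p w hp hWpow hWcard hφinj
  -- the centraliser
  set C := Subgroup.centralizer (W : Set H) with hC
  have hCfix : ∀ c ∈ C, ∀ x : R, D.σ c x = x := by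
    intro c hc x
    refine Subtype.ext ?_
    have h : Set.EqOn (conjEnd V c) (RingHom.id (AddMonoid.End V)) (act '' (W : Set H)) := by
      rintro _ ⟨a, ha, rfl⟩
      refine ((map_mul act (c * a) c⁻¹).trans (congrArg (· * _) (map_mul act c a))).symm.trans ?_
      show act (c * a * c⁻¹) = _
      rw [← Subgroup.mem_centralizer_iff.1 hc a ha, mul_inv_cancel_right]
      rfl
    exact RingHom.eqOn_set_closure h x.2
  have hmemC : ∀ g : H, (∀ ω ∈ s, ∀ x : R, D.σ g x - x ∈ ω.asIdeal) → g ∈ C := by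
    intro g hg
    refine Subgroup.mem_centralizer_iff.2 fun a ha => ?_
    let x : W := ⟨a, ha⟩
    let y : W := ⟨g * a * g⁻¹, Subgroup.Normal.conj_mem inferInstance _ ha g⟩
    have h1 : y * x⁻¹ = 1 := hs _ fun ω hω => by
      have h2 := hg ω hω (el x)
      rw [hconj, ← Ideal.Quotient.mk_eq_mk_iff_sub_mem] at h2
      have h3 : φ ω y = φ ω x := Units.ext h2
      rw [MonoidHom.mem_ker, map_mul, map_inv, h3, mul_inv_cancel]
    rw [mul_inv_eq_one] at h1
    have h2 : g * a * g⁻¹ = a := congrArg Subtype.val h1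
    calc a * g = g * a * g⁻¹ * g := by rw [h2]
      _ = g * a := inv_mul_cancel_right _ _
  obtain ⟨hind1, hind2⟩ := D.index_le_pow r d w hd0 hcardK C s hscard hmemC
    (D.card_range_perm hsol hcol ω₀) ω₀
  haveI hCn : C.Normal := by rw [hC]; infer_instance
  have hCR : CR C V := cr_of_normal hirr C
  have hWC : W ≤ C := fun a ha => Subgroup.mem_centralizer_iff.2 fun b hb => hWab b hb a ha
  have hgen : ∀ Y : AddSubgroup V, Inv C V Y → ∀ x : R, ∀ v ∈ Y, D.ι x v ∈ Y := by
    intro Y hY x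
    show ∀ v ∈ Y, (x : AddMonoid.End V) v ∈ Y
    obtain ⟨x, hx⟩ := x
    induction hx using Subring.closure_induction with
    | mem a ha =>
      obtain ⟨a, ha, rfl⟩ := ha
      exact fun v hv => hY ⟨a, hWC ha⟩ v hv
    | zero => exact fun v _ => zero_mem _
    | one => exact fun v hv => hv
    | add a b _ _ ha hb => exact fun v hv => add_mem (ha v hv) (hb v hv)
    | neg a _ ha => exact fun v hv => neg_mem (ha v hv)
    | mul a b _ _ ha hb => exact fun v hv => ha _ (hb v hv)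
  choose B hBi hBab using fun ω =>
    D.exists_abelian hlin hsol C hCR hCfix hgen ω m (hfinrank ω)
  refine ⟨t, d, m, (⨅ ω, B ω).map C.subtype, ht0, hd0, hm0, hwt, hcardV, ?_, hind1, hind2, ?_, ?_, ?_⟩
  · -- a non-trivial character
    obtain ⟨x, hx⟩ : ∃ x : W, x ≠ 1 := by
      by_contra hall
      push Not at hall
      haveI : Subsingleton W := ⟨fun a b => (hall a).trans (hall b).symm⟩
      rw [Nat.card_unique] at hWcard
      exact absurd hWcard (Nat.one_lt_pow hw.ne' hp.one_lt).ne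
    obtain ⟨ω, hω⟩ := not_forall.1 fun h => hx (hφinj x h)
    have hord : orderOf (φ ω x) = p :=
      orderOf_eq_prime (by rw [← map_pow, hWpow, map_one]) hω
    have := orderOf_dvd_natCard (φ ω x)
    rwa [hord, Nat.card_units, hcardK] at this
  · rintro _ ⟨a, ha, rfl⟩ _ ⟨b, hb, rfl⟩
    refine eq_of_smul_eq_smul (α := V) fun v => ?_
    rw [mul_smul, mul_smul, ← D.sum_ι_idem v]
    simp only [Finset.smul_sum]
    refine Finset.sum_congr rfl fun ω _ => ?_
    simp only [SetLike.mem_coe, Subgroup.mem_iInf] at ha hb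
    exact hBab ω a (ha ω) b (hb ω) _ (D.idem_apply_mem ω v)
  · rw [Subgroup.index_map_subtype, mul_comm]
    refine Nat.mul_le_mul_left _ ((Subgroup.index_iInf_le _).trans ?_)
    refine (Finset.prod_le_pow_card _ _ (16 ^ (m - 1)) fun ω _ => ?_).trans_eq ?_
    · refine Nat.le_of_mul_le_mul_left ((hBi ω).trans_eq ?_) (by norm_num : 0 < 16)
      rw [← pow_succ', Nat.sub_add_cancel hm0]
    · rw [Finset.card_univ, ← ht, ← pow_mul]
  · exact D.exists_quotient_injection

end Cfsg.Agent.H35.ClassPrime
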