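import Cfsg.Agent.H86.BaseThree.Basic
import Cfsg.Agent.H52.RegPair.Pairing

/-!
The statements passed between the parts of the proof that a solvable group has at least
`p / (3 log₂ p)` classes when `p` divides the index of its Fitting subgroup.
-/

set_option autoImplicit false

namespace Cfsg.Agent.H35.ClassPrime

open Cfsg.Agent.H52.RegPair

universe u

/-- A Lagrangian and a bound for the isometries of a squarefree nondegenerate pairing. -/
def SympBound : Prop :=
  ∀ (K : Type u) [Field K] [Finite K] (W : Type u) [CommGroup W] [Finite W] (b : W →* W →* Kˣ),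
    AltPair b → (∀ x : W, ∃ N : ℕ, Squarefree N ∧ x ^ N = 1) →
      ∃ (e : ℕ) (L : Subgroup W), 0 < e ∧ Nat.card W = e * e ∧ Nat.card L = e ∧
        (∀ x ∈ L, ∀ y ∈ L, b x y = 1) ∧
        16 * e * Nat.card {f : W ≃* W // ∀ x y, b (f x) (f y) = b x y} ≤ 16 ^ e

/-- An abelian subgroup of small index in a primitive solvable group of linear maps with all
scalars. -/
def PrimAbelian : Prop :=
  ∀ (K : Type u) [Field K] [Finite K] (G : Type u) [Group G] [Finite G]
    (V : Type u) [AddCommGroup V] [Finite V] [Nontrivial V] [Module K V] [DistribMulAction G V]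
    [FaithfulSMul G V], Group.IsSolvable G →
      (∀ (g : G) (k : K) (v : V), g • (k • v) = k • (g • v)) →
      (∀ k : K, k ≠ 0 → ∃ g : G, ∀ v : V, g • v = k • v) →
      Irr G V → ¬ Imprim G V →
        ∃ A : Subgroup G, (∀ a ∈ A, ∀ b ∈ A, a * b = b * a) ∧
          16 * A.index ≤ 16 ^ Module.finrank K V

/-- An abelian subgroup of small index in a solvable completely reducible group of linear maps with
all scalars. -/
def LinAbelian : Prop :=
  ∀ (K : Type u) [Field K] [Finite K] (G : Type u) [Group G] [Finite G]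
    (V : Type u) [AddCommGroup V] [Finite V] [Nontrivial V] [Module K V] [DistribMulAction G V]
    [FaithfulSMul G V], Group.IsSolvable G →
      (∀ (g : G) (k : K) (v : V), g • (k • v) = k • (g • v)) →
      (∀ k : K, k ≠ 0 → ∃ g : G, ∀ v : V, g • v = k • v) →
      CR G V →
        ∃ A : Subgroup G, (∀ a ∈ A, ∀ b ∈ A, a * b = b * a) ∧
          16 * A.index ≤ 16 ^ Module.finrank K V

/-- The decomposition of an irreducible module under an abelian normal subgroup of prime
exponent. -/
def CompData : Prop :=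
  ∀ (H : Type u) [Group H] [Finite H] (V : Type u) [AddCommGroup V] [Finite V] [Nontrivial V]
    [DistribMulAction H V] [FaithfulSMul H V] (W : Subgroup H) [W.Normal] (p r w : ℕ),
      Group.IsSolvable H → Irr H V → p.Prime → r.Prime → r ≠ p → (∀ v : V, r • v = 0) →
      (∀ x ∈ W, ∀ y ∈ W, x * y = y * x) → (∀ x ∈ W, x ^ p = 1) → Nat.card W = p ^ w → 0 < w →
      ∃ (t d m : ℕ) (A : Subgroup H), 0 < t ∧ 0 < d ∧ 0 < m ∧ w ≤ t ∧
        Nat.card V = r ^ (d * m * t) ∧ p ∣ r ^ d - 1 ∧
        (Subgroup.centralizer (W : Set H)).index ≤ (t * d) ^ w ∧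
        (Subgroup.centralizer (W : Set H)).index ≤ d ^ t * 5 ^ (t - 1) ∧
        (∀ a ∈ A, ∀ b ∈ A, a * b = b * a) ∧
        A.index ≤ (Subgroup.centralizer (W : Set H)).index * 16 ^ ((m - 1) * t) ∧
        t + 1 ≤ Nat.card (MulAction.orbitRel.Quotient H V)

/-- The arithmetic at the end. -/
def NumBound : Prop :=
  ∀ p r d t m w L k n : ℕ, p.Prime → r.Prime → 0 < d → 0 < t → 0 < m → 0 < w → w ≤ t → 0 < L →
    p ∣ r ^ d - 1 → L ≤ (t * d) ^ w → L ≤ d ^ t * 5 ^ (t - 1) →
    2 ≤ k → p ^ w ≤ L * (k - 1) + 1 → t + 1 ≤ n →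
    r ^ (d * m * t) ≤ k * n * (L * 16 ^ ((m - 1) * t)) ^ 2 →
      (p : ℝ) / (3 * Real.logb 2 p) ≤ ((k + n - 1 : ℕ) : ℝ)

/-- The class number as it comes out of the structure. -/
def ClassBound : Prop :=
  ∀ (H : Type u) [Group H] [Finite H] (V : Type u) [AddCommGroup V] [Finite V] [Nontrivial V]
    [DistribMulAction H V] [FaithfulSMul H V] (W : Subgroup H) [W.Normal] (p r w : ℕ),
      Group.IsSolvable H → Irr H V → p.Prime → r.Prime → r ≠ p → (∀ v : V, r • v = 0) →
      (∀ x ∈ W, ∀ y ∈ W, x * y = y * x) → (∀ x ∈ W, x ^ p = 1) → Nat.card W = p ^ w → 0 < w →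
      (p : ℝ) / (3 * Real.logb 2 p) ≤
        ((Nat.card (ConjClasses H) + Nat.card (MulAction.orbitRel.Quotient H V) - 1 : ℕ) : ℝ)

end Cfsg.Agent.H35.ClassPrime
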