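import Cfsg.Agent.H35.ClassPrime.Defs

/-!
The class number of a linear group from an abelian subgroup and the orbits on the module.
-/

set_option autoImplicit false
set_option linter.unusedSectionVars false
set_option linter.style.haveILetI false

namespace Cfsg.Agent.H35.ClassPrime

open Cfsg.Agent.H52.RegPair

universe u

/-- A conjugacy class has at most as many elements as the index of a subgroup centralising one of
them. -/
theorem ncard_carrier_le {H : Type u} [Group H] [Finite H] (x : H) (B : Subgroup H)
    (hB : ∀ b ∈ B, b * x = x * b) : Nat.card (ConjClasses.mk x).carrier ≤ B.index := by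
  classical
  haveI : Fintype H := Fintype.ofFinite H
  have he : MulAction.orbit (ConjAct H) x = (ConjClasses.mk x).carrier :=
    ConjAct.orbit_eq_carrier_conjClasses x
  rw [← he, Nat.card_congr (MulAction.orbitEquivQuotientStabilizer (ConjAct H) x)]
  have h1 : (MulAction.stabilizer (ConjAct H) x).index =
      ((MulAction.stabilizer (ConjAct H) x).comap ConjAct.toConjAct.toMonoidHom).index :=
    (Subgroup.index_comap_of_surjective _ ConjAct.toConjAct.surjective).symm
  rw [← Subgroup.index_eq_card, h1]
  refine Nat.le_of_dvd (Nat.pos_of_ne_zero Subgroup.index_ne_zero_of_finite)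
    (Subgroup.index_dvd_of_le fun b hb => ?_)
  show ConjAct.toConjAct b • x = x
  rw [ConjAct.toConjAct_smul, hB b hb, mul_inv_cancel_right]

theorem card_le_mul {α β : Type u} [Finite α] [Finite β] (f : α → β) (c : ℕ)
    (h : ∀ a : α, Nat.card {x : α // f x = f a} ≤ c) : Nat.card α ≤ Nat.card β * c := by
  classical
  haveI := Fintype.ofFinite α
  haveI := Fintype.ofFinite β
  rw [Nat.card_eq_fintype_card, Nat.card_eq_fintype_card, mul_comm, ← Finset.card_univ,
    ← Finset.card_univ (α := β)]
  refine Finset.card_le_mul_card_image_of_maps_to (fun a _ => Finset.mem_univ (f a)) c fun b _ => ?_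
  by_cases hb : ∃ a, f a = b
  · obtain ⟨a, rfl⟩ := hb
    have := h a
    rwa [Nat.card_eq_fintype_card, Fintype.card_subtype] at this
  · rw [Finset.filter_false_of_mem (fun a _ ha => hb ⟨a, ha⟩), Finset.card_empty]
    exact Nat.zero_le _

/-- The class number bound, given the decomposition and the arithmetic. -/
theorem classBound (hcomp : CompData.{u}) (hnum : NumBound) : ClassBound.{u} := by
  intro H _ _ V _ _ _ _ _ W _ p r w hsol hirr hp hr hrp hrV hab hexp hW hw
  classical
  obtain ⟨t, d, m, A, ht, hd, hm, hwt, hV, hpd, hL1, hL2, hA, hAi, hn⟩ :=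
    hcomp H V W p r w hsol hirr hp hr hrp hrV hab hexp hW hw
  set L := (Subgroup.centralizer (W : Set H)).index with hLdef
  have hL0 : 0 < L := Nat.pos_of_ne_zero Subgroup.index_ne_zero_of_finite
  have hW1 : 1 < Nat.card W := by rw [hW]; exact Nat.one_lt_pow hw.ne' hp.one_lt
  haveI : Finite (ConjClasses H) := Quotient.finite _
  haveI : Finite (MulAction.orbitRel.Quotient H V) := Quotient.finite _
  have hne1 : ∀ x : H, x ≠ 1 → ConjClasses.mk x ≠ ConjClasses.mk 1 := fun x hx h => hx (by
    simpa using ConjClasses.mk_eq_mk_iff_isConj.1 h)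
  have hk2 : 2 ≤ Nat.card (ConjClasses H) := by
    haveI : Nontrivial W := Finite.one_lt_card_iff_nontrivial.1 hW1
    obtain ⟨x, hx⟩ := exists_ne (1 : W)
    haveI : Nontrivial (ConjClasses H) :=
      ⟨⟨_, _, hne1 x fun h => hx (Subtype.ext h)⟩⟩
    exact Finite.one_lt_card_iff_nontrivial.2 inferInstance
  have hkW : p ^ w ≤ L * (Nat.card (ConjClasses H) - 1) + 1 := by
    let f : {x : W // x ≠ 1} → {c : ConjClasses H // c ≠ ConjClasses.mk 1} := fun x =>
      ⟨ConjClasses.mk ((x : W) : H), hne1 _ fun h => x.2 (Subtype.ext h)⟩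
    have h := card_le_mul f L fun a => by
      refine le_trans ?_ (ncard_carrier_le ((a : W) : H) _ fun b hb =>
        ((Subgroup.mem_centralizer_iff.1 hb) _ (a : W).2).symm)
      refine Nat.card_le_card_of_injective (fun x => (⟨(((x : {x : W // x ≠ 1}) : W) : H),
        ConjClasses.mem_carrier_iff_mk_eq.2 (congrArg Subtype.val x.2)⟩ :
          (ConjClasses.mk ((a : W) : H)).carrier)) fun x y e => ?_
      exact Subtype.ext (Subtype.ext (Subtype.ext (congrArg Subtype.val e :)))
    have hcW : Nat.card {x : W // x ≠ 1} = p ^ w - 1 := by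
      haveI := Fintype.ofFinite W
      rw [← hW, Nat.card_eq_fintype_card, Nat.card_eq_fintype_card, Fintype.card_subtype_compl,
        Fintype.card_subtype_eq]
    have hcC : Nat.card {c : ConjClasses H // c ≠ ConjClasses.mk 1} =
        Nat.card (ConjClasses H) - 1 := by
      haveI := Fintype.ofFinite (ConjClasses H)
      rw [Nat.card_eq_fintype_card, Nat.card_eq_fintype_card, Fintype.card_subtype_compl,
        Fintype.card_subtype_eq]
    rw [hcW, hcC, mul_comm] at h
    omega
  have hkA : Nat.card A ≤ Nat.card (ConjClasses H) * A.index :=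
    card_le_mul (fun a : A => ConjClasses.mk (a : H)) A.index fun a => by
      refine le_trans ?_ (ncard_carrier_le (a : H) A fun b hb => hA b hb a a.2)
      exact Nat.card_le_card_of_injective (fun x => (⟨((x : A) : H),
        ConjClasses.mem_carrier_iff_mk_eq.2 x.2⟩ : (ConjClasses.mk (a : H)).carrier))
        fun x y e => Subtype.ext (Subtype.ext (congrArg Subtype.val e :))
  have hnV : Nat.card V ≤ Nat.card (MulAction.orbitRel.Quotient H V) * Nat.card H :=
    card_le_mul (fun v : V => (Quotient.mk'' v : MulAction.orbitRel.Quotient H V)) (Nat.card H)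
      fun a => by
        refine Nat.card_le_card_of_injective
          (fun x => (Quotient.eq''.1 x.2 : (x : V) ∈ MulAction.orbit H a).choose) fun x y e => ?_
        have hx := (Quotient.eq''.1 x.2 : (x : V) ∈ MulAction.orbit H a).choose_spec
        have hy := (Quotient.eq''.1 y.2 : (y : V) ∈ MulAction.orbit H a).choose_spec
        simp only at hx hy e
        exact Subtype.ext (by rw [← hx, ← hy, e])
  have hkn : r ^ (d * m * t) ≤ Nat.card (ConjClasses H) *
      Nat.card (MulAction.orbitRel.Quotient H V) * (L * 16 ^ ((m - 1) * t)) ^ 2 := by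
    rw [← hV]
    have hH := A.card_mul_index
    have h1 : Nat.card V * Nat.card A ≤ Nat.card A * (Nat.card (ConjClasses H) *
        Nat.card (MulAction.orbitRel.Quotient H V) * A.index ^ 2) := by
      calc Nat.card V * Nat.card A
          ≤ (Nat.card (MulAction.orbitRel.Quotient H V) * Nat.card H) *
              (Nat.card (ConjClasses H) * A.index) := Nat.mul_le_mul hnV hkA
        _ = _ := by rw [← hH]; ring
    rw [mul_comm] at h1
    exact (Nat.le_of_mul_le_mul_left h1 Nat.card_pos).trans
      (Nat.mul_le_mul_left _ (Nat.pow_le_pow_left hAi 2))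
  exact hnum p r d t m w L _ _ hp hr hd ht hm hw hwt hL0 hpd hL1 hL2 hk2 hkW hn hkn

end Cfsg.Agent.H35.ClassPrime
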