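import Cfsg.Agent.H35.ClassPrime.Defs
import Cfsg.Agent.H39.BaseThree.Colour

/-!
An abelian subgroup of small index in a solvable completely reducible group of linear maps: the
reduction to primitive modules.
-/

set_option autoImplicit false
set_option linter.unusedSectionVars false
set_option linter.style.haveILetI false

namespace Cfsg.Agent.H35.ClassPrime

open Cfsg.Agent.H52.RegPair Cfsg.Agent.H86.BaseThree MulAction
open scoped Pointwise

universe u

/-- Complete reducibility passes to normal subgroups. -/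
theorem cr_normal {G : Type u} [Group G] [Finite G] {V : Type u} [AddCommGroup V] [Finite V]
    [DistribMulAction G V] (hV : CR G V) (N : Subgroup G) [N.Normal] : CR N V := by
  classical
  haveI : Finite (AddSubgroup V) :=
    Finite.of_injective (fun D : AddSubgroup V => (D : Set V)) SetLike.coe_injective
  let Mins : Set (AddSubgroup V) :=
    {M | Inv N V M ∧ M ≠ ⊥ ∧ ∀ M' : AddSubgroup V, Inv N V M' → M' ≤ M → M' = ⊥ ∨ M' = M}
  have hexists : ∀ W : AddSubgroup V, Inv N V W → W ≠ ⊥ → ∃ M ∈ Mins, M ≤ W := by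
    intro W hW hW0
    obtain ⟨M, ⟨hM, hM0, hMW⟩, hmin⟩ := (Set.toFinite
      {M : AddSubgroup V | Inv N V M ∧ M ≠ ⊥ ∧ M ≤ W}).exists_minimal ⟨W, hW, hW0, le_rfl⟩
    exact ⟨M, ⟨hM, hM0, fun M' h' hle => or_iff_not_imp_left.2 fun h0 =>
      le_antisymm hle (hmin ⟨h', h0, hle.trans hMW⟩ hle)⟩, hMW⟩
  let S : AddSubgroup V := ⨆ M : Mins, (M : AddSubgroup V)
  have hmins : ∀ (g : G) (M : AddSubgroup V), M ∈ Mins → g • M ∈ Mins := by
    rintro g M ⟨hM, hM0, hmin⟩
    have hconj : ∀ (x : G) (M : AddSubgroup V), Inv N V M → Inv N V (x • M) := by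
      intro x M hM n v hv
      rw [AddSubgroup.mem_pointwise_smul_iff_inv_smul_mem] at hv ⊢
      have hn : x⁻¹ * (n : G) * x ∈ N := by
        simpa using Subgroup.Normal.conj_mem inferInstance (n : G) n.2 x⁻¹
      have := hM ⟨_, hn⟩ _ hv
      change (x⁻¹ * (n : G) * x) • (x⁻¹ • v) ∈ M at this
      show x⁻¹ • ((n : G) • v) ∈ M
      simpa [← mul_smul, mul_assoc] using this
    refine ⟨hconj g M hM, fun h => hM0 ((AddSubgroup.eq_bot_iff_forall _).2 fun x hx =>
      (smul_eq_zero_iff_eq g).1 ((AddSubgroup.eq_bot_iff_forall _).1 h _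
        (AddSubgroup.smul_mem_pointwise_smul x g M hx))), fun M' h' hle => ?_⟩
    rcases hmin (g⁻¹ • M') (hconj _ _ h') (fun x hx => by
        rw [AddSubgroup.mem_inv_pointwise_smul_iff] at hx
        exact AddSubgroup.smul_mem_pointwise_smul_iff.1 (hle hx)) with h | h
    · refine Or.inl ((AddSubgroup.eq_bot_iff_forall _).2 fun x hx => ?_)
      exact (smul_eq_zero_iff_eq g⁻¹).1 ((AddSubgroup.eq_bot_iff_forall _).1 h _
        (AddSubgroup.smul_mem_pointwise_smul x g⁻¹ M' hx))
    · exact Or.inr (by rw [← smul_inv_smul g M', h])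
  have hS : Inv G V S := by
    intro g x hx
    refine AddSubgroup.iSup_induction _ (C := fun x => g • x ∈ S) hx (fun M y hy => ?_)
      (by rw [smul_zero]; exact S.zero_mem) (fun y z hy hz => by rw [smul_add]; exact S.add_mem hy hz)
    exact AddSubgroup.mem_iSup_of_mem ⟨g • (M : AddSubgroup V), hmins g M M.2⟩
      (AddSubgroup.smul_mem_pointwise_smul y g _ hy)
  have hStop : S = ⊤ := by
    obtain ⟨W, hW, hdis, hsup⟩ := hV S hS
    have hW0 : W = ⊥ := by
      by_contra hne
      obtain ⟨M, hM, hMW⟩ := hexists W (fun n x hx => hW n x hx) hne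
      refine hM.2.1 (eq_bot_iff.2 ?_)
      rw [← hdis]
      exact le_inf (le_iSup (fun M : Mins => (M : AddSubgroup V)) ⟨M, hM⟩) hMW
    rw [← hsup, hW0, sup_bot_eq]
  intro U hU
  obtain ⟨W, ⟨hW, hdis⟩, hmax⟩ := (Set.toFinite
    {W : AddSubgroup V | Inv N V W ∧ U ⊓ W = ⊥}).exists_maximal
    ⟨⊥, fun n x hx => by rw [AddSubgroup.mem_bot] at hx ⊢; rw [hx, smul_zero], inf_bot_eq _⟩
  refine ⟨W, hW, hdis, eq_top_iff.2 (hStop ▸ iSup_le fun M => ?_)⟩
  obtain ⟨hM, hM0, hmin⟩ := M.2
  by_contra hle
  have hsupinv : ∀ A B : AddSubgroup V, Inv N V A → Inv N V B → Inv N V (A ⊔ B) := by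
    intro A B hA hB n x hx
    obtain ⟨a, ha, b, hb, rfl⟩ := AddSubgroup.mem_sup.1 hx
    rw [smul_add]
    exact AddSubgroup.mem_sup.2 ⟨_, hA n a ha, _, hB n b hb, rfl⟩
  have hbot : (M : AddSubgroup V) ⊓ (U ⊔ W) = ⊥ :=
    (hmin _ (fun n x hx => AddSubgroup.mem_inf.2 ⟨hM n x hx.1, hsupinv U W hU hW n x hx.2⟩) inf_le_left).resolve_right
      (fun h => hle (h ▸ inf_le_right))
  have hnew : U ⊓ (W ⊔ M) = ⊥ := by
    refine (AddSubgroup.eq_bot_iff_forall _).2 fun x hx => ?_
    obtain ⟨w, hw, a, ha, rfl⟩ := AddSubgroup.mem_sup.1 hx.2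
    have ha0 : a = 0 := by
      have : a ∈ (M : AddSubgroup V) ⊓ (U ⊔ W) := ⟨ha, by
        have := AddSubgroup.sub_mem (U ⊔ W) (AddSubgroup.mem_sup_left hx.1)
          (AddSubgroup.mem_sup_right hw)
        simpa using this⟩
      rwa [hbot, AddSubgroup.mem_bot] at this
    subst ha0
    have : w ∈ U ⊓ W := ⟨by simpa using hx.1, hw⟩
    rw [hdis, AddSubgroup.mem_bot] at this
    rw [this, add_zero]
  exact hle ((le_sup_right (a := W)).trans
    ((hmax ⟨hsupinv W M hW hM, hnew⟩ le_sup_left).trans le_sup_right))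

/-- An element acting as a nonzero scalar fixes the members of a system of imprimitivity. -/
theorem scalar_fix {K : Type u} [Field K] {G : Type u} [Group G] {V : Type u} [AddCommGroup V]
    [Module K V] [DistribMulAction G V]
    (hscal : ∀ k : K, k ≠ 0 → ∃ g : G, ∀ v : V, g • v = k • v) {𝔇 : Set (AddSubgroup V)}
    (hinv : ∀ (g : G) D, D ∈ 𝔇 → g • D ∈ 𝔇) (hne : ∀ D ∈ 𝔇, D ≠ ⊥) (hind : Indep V 𝔇)
    {g : G} {k : K} (hg : ∀ v : V, g • v = k • v) {D : AddSubgroup V} (hD : D ∈ 𝔇) : g • D = D := by
  classical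
  by_contra hgD
  obtain ⟨x, hx, hx0⟩ := (AddSubgroup.bot_or_exists_ne_zero D).resolve_left (hne D hD)
  have hgx : g • x ∈ g • D := AddSubgroup.smul_mem_pointwise_smul x g D hx
  have hgx0 : g • x ≠ 0 := fun h => hx0 ((smul_eq_zero_iff_eq g).1 h)
  by_cases hk : 1 + k = 0
  · refine hgD (AddSubgroup.ext fun v => ?_)
    have hk1 : ∀ v : V, g • v = -v := fun v => by
      rw [hg, eq_neg_of_add_eq_zero_right hk, neg_smul, one_smul]
    constructor
    · rintro ⟨w, hw, rfl⟩
      show g • w ∈ D
      rw [hk1]
      exact D.neg_mem hw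
    · intro hv
      exact ⟨-v, D.neg_mem hv, (hk1 (-v)).trans (neg_neg v)⟩
  obtain ⟨h, hh⟩ := hscal _ hk
  have hhx : h • x ∈ h • D := AddSubgroup.smul_mem_pointwise_smul x h D hx
  have hsum : x + g • x - h • x = 0 := by rw [hg, hh, add_smul, one_smul, sub_self]
  have key := fun (f : AddSubgroup V → V) (s : Finset (AddSubgroup V)) => hind s f
  by_cases h1 : h • D = D
  · rw [h1] at hhx
    have := key (fun E => if E = g • D then g • x else x - h • x) {g • D, D}
      (by simp [Set.insert_subset_iff, hinv g D hD, hD])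
      (by simp [hgx, Ne.symm hgD, D.sub_mem hx hhx])
      (by rw [Finset.sum_pair hgD, if_pos rfl, if_neg (Ne.symm hgD), ← hsum]; abel) (g • D) (by simp)
    simp only [if_true] at this
    exact hgx0 this
  by_cases h2 : h • D = g • D
  · rw [h2] at hhx
    have := key (fun E => if E = D then x else g • x - h • x) {D, g • D}
      (by simp [Set.insert_subset_iff, hinv g D hD, hD])
      (by simp [hx, hgD, (g • D).sub_mem hgx hhx])
      (by rw [Finset.sum_pair (Ne.symm hgD), if_pos rfl, if_neg hgD, ← hsum]; abel) D (by simp)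
    simp only [if_true] at this
    exact hx0 this
  have := key (fun E => if E = D then x else if E = g • D then g • x else -(h • x)) {D, g • D, h • D}
    (by simp [Set.insert_subset_iff, hinv g D hD, hinv h D hD, hD])
    (by simp [hx, hgD, hgx, h1, h2, hhx])
    (by
      rw [Finset.sum_insert (by simp [Ne.symm hgD, Ne.symm h1]), Finset.sum_pair (Ne.symm h2),
        if_pos rfl, if_neg hgD, if_pos rfl, if_neg h1, if_neg h2, ← hsum]
      abel) D (by simp)
  simp only [if_true] at this
  exact hx0 this

/-- The inductive hypothesis. -/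
def BelowLin (K : Type u) [Field K] (c : ℕ) : Prop :=
  ∀ (H : Type u) [Group H] [Finite H] (X : Type u) [AddCommGroup X] [Finite X] [Nontrivial X]
    [Module K X] [DistribMulAction H X] [FaithfulSMul H X], Nat.card H + Nat.card X < c →
      Group.IsSolvable H → (∀ (g : H) (k : K) (v : X), g • (k • v) = k • (g • v)) →
      (∀ k : K, k ≠ 0 → ∃ g : H, ∀ v : X, g • v = k • v) → CR H X →
        ∃ A : Subgroup H, (∀ a ∈ A, ∀ b ∈ A, a * b = b * a) ∧
          16 * A.index ≤ 16 ^ Module.finrank K X

/-- An abelian subgroup from an invariant decomposition. -/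
theorem of_decomp {K : Type u} [Field K] [Finite K] {G : Type u} [Group G] [Finite G]
    {V : Type u} [AddCommGroup V] [Finite V] [Module K V] [DistribMulAction G V] [FaithfulSMul G V]
    (hsol : Group.IsSolvable G) (hlin : ∀ (g : G) (k : K) (v : V), g • (k • v) = k • (g • v))
    (hcr : CR G V) (ih : BelowLin K (Nat.card G + Nat.card V))
    (N : Subgroup G) [N.Normal] (hscal : ∀ k : K, k ≠ 0 → ∃ g : N, ∀ v : V, g • v = k • v)
    {ι : Type u} [Fintype ι] (D : ι → AddSubgroup V) (hD : ∀ i, Inv N V (D i)) (hne : ∀ i, D i ≠ ⊥)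
    (hproper : ∀ i, D i ≠ ⊤)
    (hind : ∀ f : ι → V, (∀ i, f i ∈ D i) → ∑ i, f i = 0 → ∀ i, f i = 0)
    (hspan : (⨆ i, D i) = ⊤) :
    ∃ A : Subgroup G, (∀ a ∈ A, ∀ b ∈ A, a * b = b * a) ∧
      A.index * 16 ^ Fintype.card ι ≤ N.index * 16 ^ Module.finrank K V := by
  classical
  haveI : Group.IsSolvable G := hsol
  have hkmem : ∀ (i : ι) (k : K), ∀ v ∈ D i, k • v ∈ D i := by
    intro i k v hv
    by_cases hk : k = 0
    · rw [hk, zero_smul]; exact zero_mem _
    · obtain ⟨g, hg⟩ := hscal k hk
      rw [← hg]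
      exact hD i g v hv
  let M : ι → Submodule K V := fun i =>
    { D i with smul_mem' := fun k v hv => hkmem i k v hv }
  have step : ∀ i, ∃ A : Subgroup N, A.index * 16 ≤ 16 ^ Module.finrank K (M i) ∧
      ∀ a ∈ A, ∀ b ∈ A, ∀ v ∈ D i, (a * b) • v = (b * a) • v := by
    intro i
    letI : DistribMulAction N (M i) :=
      { smul := fun g x => ⟨g • (x : V), hD i g x x.2⟩
        one_smul := fun x => Subtype.ext (one_smul N (x : V))
        mul_smul := fun a b x => Subtype.ext (mul_smul a b (x : V))
        smul_zero := fun g => Subtype.ext (smul_zero g)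
        smul_add := fun g x y => Subtype.ext (smul_add g (x : V) (y : V)) }
    let f := DistribMulAction.toAddMonoidEnd N (M i)
    let φ : (N ⧸ f.ker) →* AddMonoid.End (M i) := QuotientGroup.lift f.ker f le_rfl
    letI : DistribMulAction (N ⧸ f.ker) (M i) :=
      { smul := fun a v => φ a v
        one_smul := fun v => DFunLike.congr_fun (map_one φ) v
        mul_smul := fun a b v => DFunLike.congr_fun (map_mul φ a b) v
        smul_zero := fun a => map_zero (φ a)
        smul_add := fun a x y => map_add (φ a) x y }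
    have hmk : ∀ (g : N) (v : M i), (QuotientGroup.mk g : N ⧸ f.ker) • v = g • v := fun g v => rfl
    haveI : FaithfulSMul (N ⧸ f.ker) (M i) := ⟨fun {a b} h => by
      induction a using QuotientGroup.induction_on with
      | _ x =>
        induction b using QuotientGroup.induction_on with
        | _ y =>
          refine QuotientGroup.eq.2 (MonoidHom.mem_ker.2 (AddMonoidHom.ext fun v => ?_))
          show (x⁻¹ * y) • v = v
          rw [mul_smul, inv_smul_eq_iff]
          exact (h v).symm⟩
    haveI : Nontrivial (M i) := (AddSubgroup.nontrivial_iff_ne_bot _).2 (hne i)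
    have hlt : Nat.card (N ⧸ f.ker) + Nat.card (M i) < Nat.card G + Nat.card V := by
      refine Nat.add_lt_add_of_le_of_lt ((Nat.le_of_dvd Nat.card_pos
        (Subgroup.card_quotient_dvd_card _)).trans (Subgroup.card_le_card_group N)) ?_
      obtain ⟨x, hx⟩ : ∃ x, x ∉ D i := by
        by_contra hno
        push Not at hno
        exact hproper i (eq_top_iff.2 fun x _ => hno x)
      exact Finite.card_subtype_lt (x := x) hx
    have hcrN : CR N (M i) := cr_sub (cr_normal hcr N) (hD i)
    obtain ⟨A, hA, hAi⟩ := ih (N ⧸ f.ker) (M i) hlt inferInstance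
      (fun a k v => by
        induction a using QuotientGroup.induction_on with
        | _ g => rw [hmk, hmk]; exact Subtype.ext (hlin (g : G) k (v : V)))
      (fun k hk => by
        obtain ⟨g, hg⟩ := hscal k hk
        exact ⟨QuotientGroup.mk g, fun v => (hmk g v).trans (Subtype.ext (hg v))⟩)
      (fun U hU => by
        obtain ⟨W, hW, h1, h2⟩ := hcrN U (fun g x hx => hmk g x ▸ hU _ x hx)
        refine ⟨W, fun a x hx => ?_, h1, h2⟩
        induction a using QuotientGroup.induction_on with
        | _ g => rw [hmk]; exact hW g x hx)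
    refine ⟨A.comap (QuotientGroup.mk' f.ker), ?_, fun a ha b hb v hv => ?_⟩
    · rw [Subgroup.index_comap_of_surjective _ (QuotientGroup.mk'_surjective _), mul_comm]
      exact hAi
    · have h : (QuotientGroup.mk (a * b) : N ⧸ f.ker) = QuotientGroup.mk (b * a) := by
        rw [QuotientGroup.mk_mul, QuotientGroup.mk_mul]
        exact hA _ ha _ hb
      have := congrArg (fun z : N ⧸ f.ker => ((z • (⟨v, hv⟩ : M i) : M i) : V)) h
      simp only [hmk] at this
      exact this
  choose A hAi hAc using step
  let B : Subgroup N := ⨅ i, A i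
  refine ⟨B.map N.subtype, ?_, ?_⟩
  · rintro _ ⟨a, ha, rfl⟩ _ ⟨b, hb, rfl⟩
    refine eq_of_smul_eq_smul (α := V) fun v => ?_
    have hv : v ∈ ⨆ i, D i := hspan ▸ AddSubgroup.mem_top v
    refine AddSubgroup.iSup_induction _ (C := fun v => ((a : G) * b) • v = ((b : G) * a) • v) hv
      (fun i w hw => hAc i a (Subgroup.mem_iInf.1 ha i) b (Subgroup.mem_iInf.1 hb i) w hw) (by simp)
      (fun y z hy hz => by rw [smul_add, smul_add, hy, hz])
  · have hcard : ∏ i, Nat.card (M i) = Nat.card V := by
      rw [← Nat.card_pi]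
      refine Nat.card_eq_of_bijective (fun f => ∑ i, (f i : V)) ⟨fun f f' h => ?_, fun v => ?_⟩
      · funext i
        have := hind (fun i => (f i : V) - f' i) (fun i => sub_mem (f i).2 (f' i).2)
          (by rw [Finset.sum_sub_distrib]; exact sub_eq_zero.2 h) i
        exact Subtype.ext (sub_eq_zero.1 this)
      · have hv : v ∈ ⨆ i, D i := hspan ▸ AddSubgroup.mem_top v
        refine AddSubgroup.iSup_induction _
          (C := fun v => ∃ f : (i : ι) → M i, ∑ i, (f i : V) = v) hv
          (fun i w hw => ⟨Pi.single i ⟨w, hw⟩, ?_⟩) ⟨0, by simp⟩ ?_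
        · rw [Finset.sum_eq_single i (fun j _ hj => by simp [Pi.single_eq_of_ne hj])
            (fun h => absurd (Finset.mem_univ i) h), Pi.single_eq_same]
        · rintro y z ⟨f, rfl⟩ ⟨f', rfl⟩
          exact ⟨f + f', by simp [Finset.sum_add_distrib]⟩
    have hm : ∑ i, Module.finrank K (M i) = Module.finrank K V := by
      refine Nat.pow_right_injective (a := Nat.card K) Finite.one_lt_card ?_
      show Nat.card K ^ (∑ i, _) = Nat.card K ^ _
      rw [← Finset.prod_pow_eq_pow_sum, ← Module.natCard_eq_pow_finrank, ← hcard]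
      exact Finset.prod_congr rfl fun i _ => Module.natCard_eq_pow_finrank.symm
    rw [Subgroup.index_map_subtype, mul_comm B.index, mul_assoc]
    refine Nat.mul_le_mul_left _ ?_
    calc B.index * 16 ^ Fintype.card ι ≤ (∏ i, (A i).index) * 16 ^ Fintype.card ι :=
          Nat.mul_le_mul_right _ (Subgroup.index_iInf_le _)
      _ = ∏ i, ((A i).index * 16) := by
          rw [Finset.prod_mul_distrib, Finset.prod_const, Finset.card_univ]
      _ ≤ ∏ i, 16 ^ Module.finrank K (M i) := Finset.prod_le_prod' fun i _ => hAi i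
      _ = 16 ^ Module.finrank K V := by rw [Finset.prod_pow_eq_pow_sum, hm]

/-- An abelian subgroup of small index, given the primitive case. -/
theorem linAbelian (hprim : PrimAbelian.{u}) : LinAbelian.{u} := by
  intro K _ _ G _ _ V _ _ _ _ _ _ hsol hlin hscal hcr
  induction hn : Nat.card G + Nat.card V using Nat.strong_induction_on generalizing G V with
  | _ n ih =>
    have hbelow : BelowLin K (Nat.card G + Nat.card V) := fun H _ _ X _ _ _ _ _ _ hlt hs hl hk hX =>
      ih _ (hn ▸ hlt) H X hs hl hk hX rfl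
    classical
    by_cases hirr : Irr G V
    · by_cases him : Imprim G V
      · obtain ⟨𝔇, hinv, hnt, hne, hind⟩ := him
        let Ds : SubMulAction G (AddSubgroup V) := ⟨𝔇, fun g D hD => hinv g D hD⟩
        haveI : Finite (AddSubgroup V) :=
          Finite.of_injective (fun D : AddSubgroup V => (D : Set V)) SetLike.coe_injective
        letI := Fintype.ofFinite Ds
        obtain ⟨D₀, hD₀, D₁, hD₁, hD01⟩ := hnt
        let N : Subgroup G := (MulAction.toPermHom G Ds).ker
        have hNfix : ∀ (g : N) (C : Ds), (g : G) • C = C := fun g C =>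
          Equiv.Perm.ext_iff.1 (MonoidHom.mem_ker.1 g.2) C
        have hindep : ∀ f : Ds → V, (∀ D : Ds, f D ∈ (D : AddSubgroup V)) → ∑ D, f D = 0 →
            ∀ D, f D = 0 := by
          intro f hf hsum D
          let F : AddSubgroup V → V := fun S => if h : S ∈ 𝔇 then f ⟨S, h⟩ else 0
          have hF : ∀ S : Ds, F (S : AddSubgroup V) = f S := fun S => dif_pos S.2
          have h := hind (Finset.univ.map (Function.Embedding.subtype _ : Ds ↪ AddSubgroup V)) F
            (fun S hS => by obtain ⟨S', -, rfl⟩ := Finset.mem_map.1 hS; exact S'.2)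
            (fun S hS => by
              obtain ⟨S', -, rfl⟩ := Finset.mem_map.1 hS
              show F S' ∈ _
              rw [hF]; exact hf S')
            (by rw [Finset.sum_map]; exact (Finset.sum_congr rfl fun S _ => hF S).trans hsum)
            (D : AddSubgroup V) (Finset.mem_map.2 ⟨D, Finset.mem_univ _, rfl⟩)
          rwa [hF] at h
        have hspan : (⨆ C : Ds, (C : AddSubgroup V)) = ⊤ := by
          refine (hirr _ (fun g x hx => ?_)).resolve_left (fun h => hne D₀ hD₀ (eq_bot_iff.2
            (h ▸ le_iSup (fun C : Ds => (C : AddSubgroup V)) ⟨D₀, hD₀⟩)))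
          refine AddSubgroup.iSup_induction _ (C := fun x => g • x ∈ _) hx (fun C y hy => ?_)
            (by rw [smul_zero]; exact AddSubgroup.zero_mem _)
            (fun y z hy hz => by rw [smul_add]; exact AddSubgroup.add_mem _ hy hz)
          exact AddSubgroup.mem_iSup_of_mem (g • C) (AddSubgroup.smul_mem_pointwise_smul y g _ hy)
        have hproper : ∀ C : Ds, (C : AddSubgroup V) ≠ ⊤ := by
          intro C hC
          obtain ⟨E, hE⟩ : ∃ E : Ds, E ≠ C := by
            by_cases h : (⟨D₀, hD₀⟩ : Ds) = C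
            · exact ⟨⟨D₁, hD₁⟩, fun h' => hD01 (congrArg Subtype.val (h.trans h'.symm))⟩
            · exact ⟨_, h⟩
          obtain ⟨y, hy, hy0⟩ :=
            (AddSubgroup.bot_or_exists_ne_zero (E : AddSubgroup V)).resolve_left (hne _ E.2)
          refine hy0 ?_
          have := hindep (Pi.single E y + Pi.single C (-y)) (fun D => ?_)
            (by simp [Finset.sum_add_distrib, Finset.sum_pi_single']) E
          · simpa [Pi.single_eq_of_ne hE] using this
          · rw [Pi.add_apply]
            refine AddSubgroup.add_mem _ ?_ ?_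
            · by_cases h : D = E
              · subst h; rw [Pi.single_eq_same]; exact hy
              · rw [Pi.single_eq_of_ne h]; exact zero_mem _
            · by_cases h : D = C
              · subst h; rw [hC]; exact AddSubgroup.mem_top _
              · rw [Pi.single_eq_of_ne h]; exact zero_mem _
        obtain ⟨A, hA, hAi⟩ := of_decomp hsol hlin hcr hbelow N
          (fun k hk => by
            obtain ⟨g, hg⟩ := hscal k hk
            exact ⟨⟨g, MonoidHom.mem_ker.2 (Equiv.ext fun C => Subtype.ext
              (scalar_fix hscal hinv hne hind hg C.2))⟩, hg⟩)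
          (fun C : Ds => (C : AddSubgroup V))
          (fun C g x hx => by
            have := AddSubgroup.smul_mem_pointwise_smul x (g : G) _ hx
            rwa [show (g : G) • (C : AddSubgroup V) = C from congrArg Subtype.val (hNfix g C)] at this)
          (fun C => hne _ C.2) hproper hindep hspan
        refine ⟨A, hA, ?_⟩
        haveI : Nonempty Ds := ⟨⟨D₀, hD₀⟩⟩
        obtain ⟨col, hcol⟩ := Cfsg.Agent.H39.BaseThree.colourAll G Ds hsol
        have hN : 5 * N.index ≤ 5 ^ Fintype.card Ds := by
          have hinj : Function.Injective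
              (fun x : Fin 5 × (G ⧸ N) => fun C : Ds => col x.1 (x.2.out⁻¹ • C)) := by
            rintro ⟨i, a⟩ ⟨j, b⟩ h
            obtain ⟨hij, hfix⟩ := hcol i j (b.out⁻¹ * a.out) fun C => by
              have := congrFun h (a.out • C)
              simp only [inv_smul_smul] at this
              rw [mul_smul]
              exact this.symm
            refine Prod.ext hij ?_
            rw [← QuotientGroup.out_eq' a, ← QuotientGroup.out_eq' b]
            exact (QuotientGroup.eq.2 (MonoidHom.mem_ker.2 (Equiv.ext fun C => hfix C))).symm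
          have := Nat.card_le_card_of_injective _ hinj
          rw [Nat.card_prod, Nat.card_fun, Nat.card_fin, ← Subgroup.index_eq_card,
            Nat.card_eq_fintype_card (α := Ds)] at this
          exact this
        obtain ⟨s, hs⟩ := Nat.exists_eq_add_of_le (Fintype.card_pos : 0 < Fintype.card Ds)
        rw [hs, pow_add, pow_one] at hAi hN
        have h5 : 5 ^ s ≤ 16 ^ s := Nat.pow_le_pow_left (by norm_num) s
        have : N.index ≤ 16 ^ s := le_trans (Nat.le_of_mul_le_mul_left hN (by norm_num)) h5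
        refine Nat.le_of_mul_le_mul_right (a := 16 * A.index) ?_ (pow_pos (by norm_num : 0 < 16) s)
        calc 16 * A.index * 16 ^ s = A.index * (16 * 16 ^ s) := by ring
          _ ≤ N.index * 16 ^ Module.finrank K V := hAi
          _ ≤ 16 ^ s * 16 ^ Module.finrank K V := Nat.mul_le_mul_right _ this
          _ = 16 ^ Module.finrank K V * 16 ^ s := by ring
      · exact hprim K G V hsol hlin hscal hirr him
    · simp only [Irr, not_forall] at hirr
      obtain ⟨U, hU, hU01⟩ := hirr
      rw [not_or] at hU01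
      obtain ⟨W, hW, hdis, hsup⟩ := hcr U hU
      let D : ULift.{u} Bool → AddSubgroup V := fun i => if i.down then U else W
      have hW1 : W ≠ ⊤ := fun h => hU01.1 (by rw [h, inf_top_eq] at hdis; exact hdis)
      have hW0 : W ≠ ⊥ := fun h => hU01.2 (by rw [h, sup_bot_eq] at hsup; exact hsup)
      obtain ⟨A, hA, hAi⟩ := of_decomp hsol hlin hcr hbelow ⊤
        (fun k hk => by obtain ⟨g, hg⟩ := hscal k hk; exact ⟨⟨g, trivial⟩, hg⟩)
        D
        (fun i g x hx => by
          obtain ⟨_ | _⟩ := i
          · exact hW g x hx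
          · exact hU g x hx)
        (fun i => by obtain ⟨_ | _⟩ := i <;> simp [D, hW0, hU01.1])
        (fun i => by obtain ⟨_ | _⟩ := i <;> simp [D, hW1, hU01.2])
        (fun f hf hsum => by
          have hu : f ⟨true⟩ ∈ U := hf ⟨true⟩
          have hw : f ⟨false⟩ ∈ W := hf ⟨false⟩
          rw [← Equiv.sum_comp Equiv.ulift.symm, Fintype.sum_bool] at hsum
          change f ⟨true⟩ + f ⟨false⟩ = 0 at hsum
          have h1 : f ⟨true⟩ ∈ U ⊓ W := ⟨hu, by
            rw [eq_neg_of_add_eq_zero_left hsum]; exact W.neg_mem hw⟩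
          rw [hdis, AddSubgroup.mem_bot] at h1
          rw [h1, zero_add] at hsum
          rintro ⟨_ | _⟩
          · exact hsum
          · exact h1)
        (eq_top_iff.2 (hsup ▸ sup_le (le_iSup D ⟨true⟩) (le_iSup D ⟨false⟩)))
      refine ⟨A, hA, ?_⟩
      rw [Subgroup.index_top, one_mul, Fintype.card_ulift, Fintype.card_bool] at hAi
      omega

end Cfsg.Agent.H35.ClassPrime
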