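import Cfsg.Agent.H35.ClassPrime.Defs

/-!
The arithmetic at the end of the class number bound `k(G) ≥ p / (3 log₂ p)`: with `i = ⌊log₂ p⌋`,
`q = r ^ d` and `S = k + n - 1` the stronger inequality `p ≤ 3 i S` follows from the hypotheses.
-/

set_option autoImplicit false

namespace Cfsg.Agent.H35.ClassPrime

namespace NumAux

/-- `2 ^ x / x ^ 2` does not decrease from `x = 3` on. -/
theorem two_pow_div_sq_mono {a b : ℕ} (ha : 3 ≤ a) (hab : a ≤ b) :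
    2 ^ a * b ^ 2 ≤ 2 ^ b * a ^ 2 := by
  induction b, hab using Nat.le_induction with
  | base => exact le_rfl
  | succ b hb ih =>
    have hb2 : (b + 1) ^ 2 ≤ 2 * b ^ 2 := by nlinarith
    calc 2 ^ a * (b + 1) ^ 2 ≤ 2 ^ a * (2 * b ^ 2) := Nat.mul_le_mul_left _ hb2
      _ = 2 * (2 ^ a * b ^ 2) := by ring
      _ ≤ 2 * (2 ^ b * a ^ 2) := Nat.mul_le_mul_left _ ih
      _ = 2 ^ (b + 1) * a ^ 2 := by ring

/-- `q / d ^ 2 ≥ p / (i + 1) ^ 2` when `q ≥ p` and `q ≥ 2 ^ d`. -/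
theorem q_div_sq {p q d i : ℕ} (hi : 2 ≤ i) (hp : p < 2 ^ (i + 1)) (hpq : p ≤ q)
    (hdq : 2 ^ d ≤ q) : p * d ^ 2 ≤ (i + 1) ^ 2 * q := by
  rcases le_or_gt d (i + 1) with h | h
  · calc p * d ^ 2 ≤ q * (i + 1) ^ 2 := Nat.mul_le_mul hpq (Nat.pow_le_pow_left h 2)
      _ = (i + 1) ^ 2 * q := Nat.mul_comm _ _
  · calc p * d ^ 2 ≤ 2 ^ (i + 1) * d ^ 2 := Nat.mul_le_mul_right _ hp.le
      _ ≤ 2 ^ d * (i + 1) ^ 2 := two_pow_div_sq_mono (by omega) h.le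
      _ ≤ q * (i + 1) ^ 2 := Nat.mul_le_mul_right _ hdq
      _ = (i + 1) ^ 2 * q := Nat.mul_comm _ _

theorem two_sq_le {p t : ℕ} (hp : 3 ≤ p) (ht : 2 ≤ t) : 2 * t ^ 2 ≤ 9 * p ^ (t - 2) := by
  induction t, ht using Nat.le_induction with
  | base => norm_num
  | succ t ht ih =>
    rw [show t + 1 - 2 = t - 2 + 1 by omega, pow_succ p]
    nlinarith

/-- The table for the groups with `r ^ d < 256`. -/
theorem small_table : ∀ i < 8, ∀ p < 2 ^ (i + 1), 2 ^ i ≤ p → 1 ≤ i →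
    7 * (p - 3 * i) ^ 2 ≤ 36 * i ^ 2 * (p - 1) := by
  decide +kernel

set_option synthInstance.maxSize 2048 in
/-- The table for `i < 14`, `d ≤ 2 i + 1`. -/
theorem grid : ∀ i < 14, 5 ≤ i → ∀ d < 2 * i + 2,
    729 * i ^ 3 * (2 ^ (2 * i + 2) - 1) < 4 * 2 ^ (3 * i + 3) * d ^ 2 →
      25 * d ^ 2 ≤ max (max (2 ^ i) (2 ^ d)) (if 9 ≤ i ∧ d ≤ 12 then 3 ^ d else 0) ∧
      3 * i * 2 ^ i ≤ (120 * d) ^ 2 ∧
      ∀ t < 121, 3 * i * 2 ^ i ≤ (t * d) ^ 2 →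
        2 ^ (2 * i + 2) * (25 * d ^ 2) ^ t ≤
          225 * i ^ 2 * max (max (2 ^ i) (2 ^ d)) (if 9 ≤ i ∧ d ≤ 12 then 3 ^ d else 0) ^ t := by
  decide +kernel

set_option synthInstance.maxSize 2048 in
/-- No prime from `512` on divides `2 ^ d - 1` for `d ≤ 12`. -/
theorem no_big_prime {p d : ℕ} (hp : p.Prime) (h512 : 512 ≤ p) (hd0 : 0 < d) (hd : d ≤ 12)
    (h : p ∣ 2 ^ d - 1) : False := by
  have key : ∀ d < 13, ∀ c < 8, 0 < c → (2 ^ d - 1) % c = 0 → 512 ≤ (2 ^ d - 1) / c →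
      ∃ e < 90, 2 ≤ e ∧ e < 512 ∧ (2 ^ d - 1) / c % e = 0 := by decide +kernel
  obtain ⟨c, hc⟩ := h
  have hpow : 2 ^ d ≤ 2 ^ 12 := Nat.pow_le_pow_right (by norm_num) hd
  have hpos : 2 ≤ 2 ^ d := Nat.le_self_pow hd0.ne' 2
  have hc0 : 0 < c := by
    rcases Nat.eq_zero_or_pos c with rfl | h0
    · omega
    · exact h0
  have hc8 : c < 8 := by
    by_contra hcon
    have : 512 * 8 ≤ p * c := Nat.mul_le_mul h512 (by omega)
    omega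
  have hdiv : (2 ^ d - 1) / c = p := by rw [hc, Nat.mul_div_cancel _ hc0]
  obtain ⟨e, -, he2, he512, he⟩ :=
    key d (by omega) c hc8 hc0 (by rw [hc]; exact Nat.mul_mod_left _ _) (by omega)
  rw [hdiv] at he
  rcases hp.eq_one_or_self_of_dvd e (Nat.dvd_of_mod_eq_zero he) with rfl | rfl <;> omega

theorem grow_four {i : ℕ} (hi : 5 ≤ i) : 100 * (i + 1) ^ 2 ≤ 4 ^ (i + 1) := by
  induction i, hi using Nat.le_induction with
  | base => norm_num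
  | succ i hi ih =>
    rw [pow_succ 4]
    nlinarith

theorem grow_two {i : ℕ} (hi : 14 ≤ i) :
    25 * (i + 1) ^ 2 ≤ 2 ^ i ∧ (12 * (2 * i + 1)) ^ 2 ≤ 3 * i * 2 ^ i ∧
      (25 * (i + 1) ^ 2) ^ 12 ≤ 225 * i ^ 2 * 2 ^ (10 * i) := by
  induction i, hi using Nat.le_induction with
  | base => norm_num
  | succ i hi ih =>
    obtain ⟨h1, h2, h3⟩ := ih
    refine ⟨?_, ?_, ?_⟩
    · rw [pow_succ 2]; nlinarith
    · rw [pow_succ 2]; nlinarith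
    · have h4 : (15 * (i + 1 + 1)) ^ 24 ≤ (16 * (i + 1)) ^ 24 :=
        Nat.pow_le_pow_left (by omega) 24
      have h5 : (i + 1 + 1) ^ 24 ≤ 2 ^ 10 * (i + 1) ^ 24 := by
        refine Nat.le_of_mul_le_mul_left ?_ (show 0 < 15 ^ 24 by norm_num)
        calc 15 ^ 24 * (i + 1 + 1) ^ 24 = (15 * (i + 1 + 1)) ^ 24 := (mul_pow _ _ _).symm
          _ ≤ (16 * (i + 1)) ^ 24 := h4
          _ = 16 ^ 24 * (i + 1) ^ 24 := mul_pow _ _ _
          _ ≤ 15 ^ 24 * 2 ^ 10 * (i + 1) ^ 24 := Nat.mul_le_mul_right _ (by norm_num)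
          _ = _ := Nat.mul_assoc _ _ _
      calc (25 * (i + 1 + 1) ^ 2) ^ 12 = 25 ^ 12 * (i + 1 + 1) ^ 24 := by
            rw [mul_pow, ← pow_mul]
        _ ≤ 25 ^ 12 * (2 ^ 10 * (i + 1) ^ 24) := Nat.mul_le_mul_left _ h5
        _ = (25 * (i + 1) ^ 2) ^ 12 * 2 ^ 10 := by rw [mul_pow, ← pow_mul]; ring
        _ ≤ 225 * i ^ 2 * 2 ^ (10 * i) * 2 ^ 10 := Nat.mul_le_mul_right _ h3
        _ = 225 * i ^ 2 * 2 ^ (10 * (i + 1)) := by
            rw [Nat.mul_assoc, ← pow_add, Nat.mul_succ]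
        _ ≤ 225 * (i + 1) ^ 2 * 2 ^ (10 * (i + 1)) :=
            Nat.mul_le_mul_right _
              (Nat.mul_le_mul_left _ (Nat.pow_le_pow_left i.le_succ 2))

/-- If `A ≤ B`, an inequality `C * A ^ s ≤ D * B ^ s` persists for larger exponents. -/
theorem pow_extend {A B C D s t : ℕ} (hAB : A ≤ B) (hst : s ≤ t) (h : C * A ^ s ≤ D * B ^ s) :
    C * A ^ t ≤ D * B ^ t := by
  obtain ⟨u, rfl⟩ := Nat.exists_eq_add_of_le hst
  rw [pow_add, pow_add, ← Nat.mul_assoc, ← Nat.mul_assoc]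
  exact Nat.mul_le_mul h (Nat.pow_le_pow_left hAB u)

/-- `(p ^ w - 1) / y ^ w ≥ (p ^ c - 1) / y ^ c` for `y ≤ p` and `c ≤ w`. -/
theorem sub_one_le {p y K w c : ℕ} (hy : 0 < y) (hyp : y ≤ p) (hc : c ≤ w)
    (h : p ^ w - 1 ≤ y ^ w * K) : p ^ c - 1 ≤ y ^ c * K := by
  obtain ⟨u, rfl⟩ := Nat.exists_eq_add_of_le hc
  have hone : 1 ≤ p ^ u := Nat.one_le_pow _ _ (by omega)
  refine Nat.le_of_mul_le_mul_right ?_ (show 0 < y ^ u by positivity)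
  calc (p ^ c - 1) * y ^ u ≤ (p ^ c - 1) * p ^ u :=
        Nat.mul_le_mul_left _ (Nat.pow_le_pow_left hyp u)
    _ = p ^ c * p ^ u - p ^ u := by rw [Nat.sub_mul, Nat.one_mul]
    _ ≤ p ^ (c + u) - 1 := by rw [pow_add]; omega
    _ ≤ y ^ (c + u) * K := h
    _ = y ^ c * K * y ^ u := by rw [pow_add]; ring

/-- If the exponential bound holds, then `k n` is too large. -/
theorem finish {p q t d L k n i : ℕ} (hd : 0 < d) (hq : q ^ t ≤ k * n * L ^ 2)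
    (hL : 25 * L ^ 2 ≤ (25 * d ^ 2) ^ t)
    (hkn : 9 * i ^ 2 * (k * n) < p ^ 2)
    (h : p ^ 2 * (25 * d ^ 2) ^ t ≤ 225 * i ^ 2 * q ^ t) : False := by
  have h1 : 225 * i ^ 2 * q ^ t ≤ 9 * i ^ 2 * (k * n) * (25 * d ^ 2) ^ t :=
    calc 225 * i ^ 2 * q ^ t = 9 * i ^ 2 * (25 * q ^ t) := by ring
      _ ≤ 9 * i ^ 2 * (25 * (k * n * L ^ 2)) := by gcongr
      _ = 9 * i ^ 2 * (k * n) * (25 * L ^ 2) := by ring
      _ ≤ _ := Nat.mul_le_mul_left _ hL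
  have hpos : 0 < (25 * d ^ 2) ^ t := by positivity
  exact absurd (h.trans h1) (Nat.not_le.2 (Nat.mul_lt_mul_of_pos_right hkn hpos))

/-- The case `r ^ d < 256`. -/
theorem small_case {p i t d w L K : ℕ} (hi : 1 ≤ i) (hilo : 2 ^ i ≤ p)
    (hihi : p < 2 ^ (i + 1)) (hp256 : p < 256) (hd : d ≤ 7) (ht : 0 < t) (hw : 0 < w)
    (hL : L ≤ (t * d) ^ w) (hpw : p ^ w ≤ L * K + 1) (hS : 3 * i * (K + t + 1) < p)
    (h5 : 5 ≤ i) : False := by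
  have hi8 : i < 8 := (Nat.pow_lt_pow_iff_right (by norm_num)).1 (hilo.trans_lt hp256 : 2 ^ i < 2 ^ 8)
  have htab := small_table i hi8 p hihi hilo hi
  have hy : 7 * t ≤ p := by nlinarith
  have hK : p ^ 1 - 1 ≤ (7 * t) ^ 1 * K := by
    refine sub_one_le (by omega) hy hw ?_
    have : L ≤ (7 * t) ^ w := hL.trans (Nat.pow_le_pow_left (by nlinarith) w)
    have := Nat.mul_le_mul_right K this
    omega
  rw [pow_one, pow_one] at hK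
  have h1 : 3 * i * (K + t) < p - 3 * i := by
    rw [Nat.mul_succ] at hS
    omega
  have h2 : (3 * i * (K + t)) ^ 2 < (p - 3 * i) ^ 2 := Nat.pow_lt_pow_left h1 (by norm_num)
  have h3 : 4 * (K * t) ≤ (K + t) ^ 2 := by nlinarith [four_mul_le_sq_add K t]
  nlinarith [Nat.mul_le_mul_left (36 * i ^ 2) hK, Nat.mul_le_mul_left (63 * i ^ 2) h3]

/-- The case `w = 1`, `r ^ d ≥ 256`. -/
theorem rank_one_case {p q i t d L k n K : ℕ} (hi : 5 ≤ i) (hihi : p < 2 ^ (i + 1))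
    (hpq : p ≤ q) (hdq : 2 ^ d ≤ q) (ht : 0 < t) (hd : 0 < d) (hL : L ≤ t * d)
    (hpw : p ≤ L * K + 1) (hq : q ^ t ≤ k * n * L ^ 2) (hS : 3 * i * (K + t + 1) < p)
    (hkn : 9 * i ^ 2 * (k * n) < p ^ 2) : False := by
  rcases le_or_gt (t * d) (3 * i) with hy | hy
  · nlinarith [Nat.mul_le_mul_right K (hL.trans hy)]
  have hp3 : 3 ≤ p := by nlinarith
  suffices h : p ^ 2 * (t * d) ^ 2 ≤ 9 * i ^ 2 * q ^ t by
    have h1 : 9 * i ^ 2 * q ^ t ≤ 9 * i ^ 2 * (k * n) * (t * d) ^ 2 :=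
      calc 9 * i ^ 2 * q ^ t ≤ 9 * i ^ 2 * (k * n * L ^ 2) := Nat.mul_le_mul_left _ hq
        _ ≤ 9 * i ^ 2 * (k * n * (t * d) ^ 2) := by gcongr
        _ = _ := by ring
    have hpos : 0 < (t * d) ^ 2 := by positivity
    exact absurd (h.trans h1) (Nat.not_le.2 (Nat.mul_lt_mul_of_pos_right hkn hpos))
  rcases (show t = 1 ∨ 2 ≤ t by omega) with rfl | ht2
  · rw [one_mul, pow_one] at *
    refine Nat.le_of_mul_le_mul_left ?_ (show 0 < 2 ^ (3 * i + 1) by positivity)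
    have h1 : 2 ^ (3 * i + 1) * d ^ 2 ≤ q * (3 * i + 1) ^ 2 :=
      (two_pow_div_sq_mono (by omega) (by omega)).trans (Nat.mul_le_mul_right _ hdq)
    have h2 : p ^ 2 * (3 * i + 1) ^ 2 ≤ 9 * i ^ 2 * 2 ^ (3 * i + 1) := by
      have h3 : p ^ 2 ≤ 2 ^ (2 * i + 2) := by
        rw [show 2 * i + 2 = (i + 1) * 2 by ring, pow_mul]
        exact Nat.pow_le_pow_left hihi.le 2
      have h4 : (3 * i + 1) ^ 2 ≤ 9 * i ^ 2 * 2 ^ (i - 1) := by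
        have : 2 ^ 1 ≤ 2 ^ (i - 1) := Nat.pow_le_pow_right (by norm_num) (by omega)
        nlinarith
      calc p ^ 2 * (3 * i + 1) ^ 2 ≤ 2 ^ (2 * i + 2) * (9 * i ^ 2 * 2 ^ (i - 1)) :=
            Nat.mul_le_mul h3 h4
        _ = 9 * i ^ 2 * (2 ^ (2 * i + 2) * 2 ^ (i - 1)) := by ring
        _ = _ := by rw [← pow_add, show 2 * i + 2 + (i - 1) = 3 * i + 1 by omega]
    calc 2 ^ (3 * i + 1) * (p ^ 2 * d ^ 2) = p ^ 2 * (2 ^ (3 * i + 1) * d ^ 2) := by ring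
      _ ≤ p ^ 2 * (q * (3 * i + 1) ^ 2) := Nat.mul_le_mul_left _ h1
      _ = p ^ 2 * (3 * i + 1) ^ 2 * q := by ring
      _ ≤ 9 * i ^ 2 * 2 ^ (3 * i + 1) * q := Nat.mul_le_mul_right _ h2
      _ = _ := by ring
  · have h1 : p ^ t * d ^ 2 ≤ (i + 1) ^ 2 * q ^ t := by
      obtain ⟨u, rfl⟩ : ∃ u, t = u + 1 := ⟨t - 1, by omega⟩
      calc p ^ (u + 1) * d ^ 2 = p ^ u * (p * d ^ 2) := by ring
        _ ≤ q ^ u * ((i + 1) ^ 2 * q) :=
            Nat.mul_le_mul (Nat.pow_le_pow_left hpq u) (q_div_sq (by omega) hihi hpq hdq)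
        _ = _ := by ring
    have h2 : p ^ 2 * t ^ 2 * (i + 1) ^ 2 ≤ 9 * i ^ 2 * p ^ t := by
      calc p ^ 2 * t ^ 2 * (i + 1) ^ 2 ≤ p ^ 2 * t ^ 2 * (2 * i ^ 2) :=
            Nat.mul_le_mul_left _ (by nlinarith)
        _ = p ^ 2 * i ^ 2 * (2 * t ^ 2) := by ring
        _ ≤ p ^ 2 * i ^ 2 * (9 * p ^ (t - 2)) := Nat.mul_le_mul_left _ (two_sq_le hp3 ht2)
        _ = 9 * i ^ 2 * (p ^ 2 * p ^ (t - 2)) := by ring
        _ = _ := by rw [← pow_add, show 2 + (t - 2) = t by omega]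
    refine Nat.le_of_mul_le_mul_left ?_ (show 0 < (i + 1) ^ 2 by positivity)
    calc (i + 1) ^ 2 * (p ^ 2 * (t * d) ^ 2) = p ^ 2 * t ^ 2 * (i + 1) ^ 2 * d ^ 2 := by ring
      _ ≤ 9 * i ^ 2 * p ^ t * d ^ 2 := Nat.mul_le_mul_right _ h2
      _ = 9 * i ^ 2 * (p ^ t * d ^ 2) := by ring
      _ ≤ 9 * i ^ 2 * ((i + 1) ^ 2 * q ^ t) := Nat.mul_le_mul_left _ h1
      _ = _ := by ring

/-- The exponential bound for large `d`. -/
theorem big_d {p q i t d : ℕ} (hi : 5 ≤ i) (hihi : p < 2 ^ (i + 1)) (hdq : 2 ^ d ≤ q)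
    (ht : 2 ≤ t) (hd : 2 * i + 2 ≤ d) : p ^ 2 * (25 * d ^ 2) ^ t ≤ 225 * i ^ 2 * q ^ t := by
  have hB : (4 : ℕ) ^ (i + 1) = 2 ^ (2 * i + 2) := by
    rw [show 2 * i + 2 = 2 * (i + 1) by ring, pow_mul]; norm_num
  have h1 : 25 * d ^ 2 * 4 ^ (i + 1) ≤ q * (100 * (i + 1) ^ 2) := by
    have := (two_pow_div_sq_mono (show 3 ≤ 2 * i + 2 by omega) hd).trans
      (Nat.mul_le_mul_right _ hdq)
    rw [hB]
    linarith [show q * (2 * i + 2) ^ 2 = 4 * (q * (i + 1) ^ 2) by ring]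
  have hA := grow_four hi
  have h2 : 4 ^ (i + 1) * (100 * (i + 1) ^ 2) ^ 2 ≤ 225 * i ^ 2 * (4 ^ (i + 1)) ^ 2 := by
    have : 100 * (i + 1) ^ 2 ≤ 225 * i ^ 2 := by nlinarith
    nlinarith [Nat.mul_le_mul this hA]
  have h3 := pow_extend hA ht h2
  have hp2 : p ^ 2 ≤ 4 ^ (i + 1) := by
    rw [hB, show 2 * i + 2 = (i + 1) * 2 by ring, pow_mul]
    exact Nat.pow_le_pow_left hihi.le 2
  refine Nat.le_of_mul_le_mul_right ?_ (show 0 < (4 ^ (i + 1)) ^ t by positivity)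
  calc p ^ 2 * (25 * d ^ 2) ^ t * (4 ^ (i + 1)) ^ t
      = p ^ 2 * (25 * d ^ 2 * 4 ^ (i + 1)) ^ t := by rw [mul_pow (25 * d ^ 2)]; ring
    _ ≤ 4 ^ (i + 1) * (q * (100 * (i + 1) ^ 2)) ^ t :=
        Nat.mul_le_mul hp2 (Nat.pow_le_pow_left h1 t)
    _ = 4 ^ (i + 1) * (100 * (i + 1) ^ 2) ^ t * q ^ t := by rw [mul_pow q]; ring
    _ ≤ 225 * i ^ 2 * (4 ^ (i + 1)) ^ t * q ^ t := Nat.mul_le_mul_right _ h3
    _ = _ := by ring

/-- The exponential bound for `i ≥ 14` and small `d`. -/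
theorem big_p {p q i t d : ℕ} (hi : 14 ≤ i) (hilo : 2 ^ i ≤ p) (hihi : p < 2 ^ (i + 1))
    (hpq : p ≤ q) (hdq : 2 ^ d ≤ q) (hd : d ≤ 2 * i + 1) (hy : 3 * i * p ≤ (t * d) ^ 2) :
    p ^ 2 * (25 * d ^ 2) ^ t ≤ 225 * i ^ 2 * q ^ t := by
  obtain ⟨hA, h12, hC⟩ := grow_two hi
  have ht : 12 ≤ t := by
    have h1 : (12 * (2 * i + 1)) ^ 2 ≤ (t * (2 * i + 1)) ^ 2 :=
      calc _ ≤ 3 * i * 2 ^ i := h12
        _ ≤ 3 * i * p := Nat.mul_le_mul_left _ hilo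
        _ ≤ (t * d) ^ 2 := hy
        _ ≤ _ := by gcongr
    exact Nat.le_of_mul_le_mul_right ((Nat.pow_le_pow_iff_left (by norm_num)).1 h1) (by omega)
  have hAp : 25 * (i + 1) ^ 2 ≤ p := hA.trans hilo
  have h2 : p ^ 2 * (25 * (i + 1) ^ 2) ^ 12 ≤ 225 * i ^ 2 * p ^ 12 :=
    calc p ^ 2 * (25 * (i + 1) ^ 2) ^ 12 ≤ p ^ 2 * (225 * i ^ 2 * 2 ^ (10 * i)) :=
          Nat.mul_le_mul_left _ hC
      _ ≤ p ^ 2 * (225 * i ^ 2 * p ^ 10) := by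
          rw [Nat.mul_comm 10 i, pow_mul]; gcongr
      _ = _ := by ring
  have h3 := pow_extend hAp ht h2
  have h4 : 25 * d ^ 2 * p ≤ 25 * (i + 1) ^ 2 * q := by
    linarith [q_div_sq (show 2 ≤ i by omega) hihi hpq hdq]
  refine Nat.le_of_mul_le_mul_right ?_
    (show 0 < p ^ t from pow_pos (lt_of_lt_of_le (Nat.two_pow_pos i) hilo) t)
  calc p ^ 2 * (25 * d ^ 2) ^ t * p ^ t = p ^ 2 * (25 * d ^ 2 * p) ^ t := by
        rw [mul_pow (25 * d ^ 2)]; ring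
    _ ≤ p ^ 2 * (25 * (i + 1) ^ 2 * q) ^ t := by gcongr
    _ = p ^ 2 * (25 * (i + 1) ^ 2) ^ t * q ^ t := by rw [mul_pow (25 * (i + 1) ^ 2)]; ring
    _ ≤ 225 * i ^ 2 * p ^ t * q ^ t := Nat.mul_le_mul_right _ h3
    _ = _ := by ring

/-- The exponential bound from the table. -/
theorem grid_case {p r i t d : ℕ} (hp : p.Prime) (hr : r.Prime) (hdvd : p ∣ r ^ d - 1)
    (hi5 : 5 ≤ i) (hi : i < 14) (hilo : 2 ^ i ≤ p) (hihi : p < 2 ^ (i + 1))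
    (hpq : p ≤ r ^ d) (hd0 : 0 < d) (hd : d ≤ 2 * i + 1) (hy : 3 * i * p ≤ (t * d) ^ 2)
    (hfail : 729 * i ^ 3 * (p ^ 2 - 1) < 4 * p ^ 3 * d ^ 2) :
    p ^ 2 * (25 * d ^ 2) ^ t ≤ 225 * i ^ 2 * (r ^ d) ^ t := by
  have hp2 := hp.two_le
  have hP2 : p ^ 2 ≤ 2 ^ (2 * i + 2) := by
    rw [show 2 * i + 2 = (i + 1) * 2 by ring, pow_mul]
    exact Nat.pow_le_pow_left hihi.le 2
  have hfail' : 729 * i ^ 3 * (2 ^ (2 * i + 2) - 1) < 4 * 2 ^ (3 * i + 3) * d ^ 2 := by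
    have h1 : p ^ 3 * (2 ^ (2 * i + 2) - 1) ≤ (p ^ 2 - 1) * 2 ^ (3 * i + 3) := by
      have hs : 1 ≤ p ^ 2 := Nat.one_le_pow _ _ (by omega)
      rw [show 2 * i + 2 = (i + 1) * 2 by ring, show 3 * i + 3 = (i + 1) * 3 by ring, pow_mul,
        pow_mul]
      generalize hP : 2 ^ (i + 1) = P at hihi
      have hs' : 1 ≤ P ^ 2 := Nat.one_le_pow _ _ (by omega)
      zify [hs, hs']
      have hpP : (p : ℤ) ≤ P := by exact_mod_cast hihi.le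
      have hp2' : (2 : ℤ) ≤ p := by exact_mod_cast hp2
      have hfac : (0 : ℤ) ≤ (p : ℤ) ^ 2 * P ^ 2 - P ^ 2 - P * p - p ^ 2 := by
        have h4 : (4 : ℤ) ≤ (p : ℤ) ^ 2 := by nlinarith
        nlinarith [mul_le_mul_of_nonneg_right h4 (sq_nonneg (P : ℤ)),
          mul_le_mul_of_nonneg_left hpP (show (0 : ℤ) ≤ P by positivity),
          pow_le_pow_left₀ (show (0 : ℤ) ≤ p by positivity) hpP 2]
      nlinarith [mul_nonneg (sub_nonneg.2 hpP) hfac]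
    refine Nat.lt_of_mul_lt_mul_left (a := p ^ 3) ?_
    calc p ^ 3 * (729 * i ^ 3 * (2 ^ (2 * i + 2) - 1))
        = 729 * i ^ 3 * (p ^ 3 * (2 ^ (2 * i + 2) - 1)) := by ring
      _ ≤ 729 * i ^ 3 * ((p ^ 2 - 1) * 2 ^ (3 * i + 3)) := Nat.mul_le_mul_left _ h1
      _ = 729 * i ^ 3 * (p ^ 2 - 1) * 2 ^ (3 * i + 3) := by ring
      _ < 4 * p ^ 3 * d ^ 2 * 2 ^ (3 * i + 3) :=
          Nat.mul_lt_mul_of_pos_right hfail (by positivity)
      _ = _ := by ring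
  obtain ⟨hx, h120, htab⟩ := grid i hi hi5 d (by omega) hfail'
  have hQ : max (max (2 ^ i) (2 ^ d)) (if 9 ≤ i ∧ d ≤ 12 then 3 ^ d else 0) ≤ r ^ d := by
    refine max_le (max_le (hilo.trans hpq) (Nat.pow_le_pow_left hr.two_le d)) ?_
    split_ifs with hcond
    · refine Nat.pow_le_pow_left ?_ d
      rcases hr.two_le.eq_or_lt with h | h
      · subst h
        exact (no_big_prime hp ((Nat.pow_le_pow_right (by norm_num) hcond.1).trans hilo) hd0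
          hcond.2 hdvd).elim
      · exact h
    · exact Nat.zero_le _
  refine le_trans (le_trans (Nat.mul_le_mul_right _ hP2) ?_)
    (Nat.mul_le_mul_left _ (Nat.pow_le_pow_left hQ t))
  rcases lt_or_ge t 121 with h | h
  · exact htab t h ((Nat.mul_le_mul_left _ hilo).trans hy)
  · exact pow_extend hx (by omega) (htab 120 (by norm_num) h120)

set_option maxHeartbeats 800000 in
/-- The case `w ≥ 2`, `r ^ d ≥ 256`. -/
theorem rank_ge_two_case {p r i t d w L k n K : ℕ} (hp : p.Prime) (hr : r.Prime)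
    (hdvd : p ∣ r ^ d - 1) (hi : 5 ≤ i) (hilo : 2 ^ i ≤ p) (hihi : p < 2 ^ (i + 1))
    (hpq : p ≤ r ^ d) (hd : 0 < d) (hw : 2 ≤ w) (hwt : w ≤ t) (hL1 : L ≤ (t * d) ^ w)
    (hL2 : L ≤ d ^ t * 5 ^ (t - 1)) (hpw : p ^ w ≤ L * K + 1)
    (hq : (r ^ d) ^ t ≤ k * n * L ^ 2) (hS : 3 * i * (K + t + 1) < p)
    (hkn : 9 * i ^ 2 * (k * n) < p ^ 2) : False := by
  have hL : 25 * L ^ 2 ≤ (25 * d ^ 2) ^ t := by
    obtain ⟨u, rfl⟩ : ∃ u, t = u + 1 := ⟨t - 1, by omega⟩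
    rw [Nat.add_sub_cancel] at hL2
    calc 25 * L ^ 2 ≤ 25 * (d ^ (u + 1) * 5 ^ u) ^ 2 := by gcongr
      _ = (d ^ 2) ^ (u + 1) * (25 * 25 ^ u) := by
          rw [show (25 : ℕ) ^ u = (5 ^ u) ^ 2 by rw [← pow_mul, Nat.mul_comm, pow_mul]; norm_num]
          ring
      _ = _ := by rw [← pow_succ', mul_pow]; ring
  refine finish hd hq hL hkn ?_
  have hdq : 2 ^ d ≤ r ^ d := Nat.pow_le_pow_left hr.two_le d
  rcases le_or_gt (2 * i + 2) d with hbig | hsmall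
  · exact big_d hi hihi hdq (by omega) hbig
  have hyp : t * d ≤ p := by nlinarith
  have hKy : p ^ 2 - 1 ≤ (t * d) ^ 2 * K := by
    refine sub_one_le (Nat.mul_pos (by omega) hd) hyp hw ?_
    have := Nat.mul_le_mul_right K hL1
    omega
  have hfail : 729 * i ^ 3 * (p ^ 2 - 1) < 4 * p ^ 3 * d ^ 2 := by
    have hA : 27 * (K * t ^ 2) ≤ 4 * (K + t) ^ 3 := by
      zify
      nlinarith [mul_nonneg (by positivity : (0 : ℤ) ≤ (K : ℤ) + 4 * t)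
        (sq_nonneg (2 * (K : ℤ) - t))]
    have h1 : (3 * i * (K + t)) ^ 3 < p ^ 3 :=
      Nat.pow_lt_pow_left (lt_of_le_of_lt (Nat.mul_le_mul_left _ (Nat.le_succ _)) hS) (by norm_num)
    calc 729 * i ^ 3 * (p ^ 2 - 1) ≤ 729 * i ^ 3 * ((t * d) ^ 2 * K) :=
          Nat.mul_le_mul_left _ hKy
      _ = 27 * i ^ 3 * d ^ 2 * (27 * (K * t ^ 2)) := by ring
      _ ≤ 27 * i ^ 3 * d ^ 2 * (4 * (K + t) ^ 3) := Nat.mul_le_mul_left _ hA
      _ = 4 * (3 * i * (K + t)) ^ 3 * d ^ 2 := by ring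
      _ < 4 * p ^ 3 * d ^ 2 :=
          Nat.mul_lt_mul_of_pos_right (Nat.mul_lt_mul_of_pos_left h1 (by norm_num)) (by positivity)
  have hy : 3 * i * p ≤ (t * d) ^ 2 := by
    by_contra hcon
    have hK : 3 * i * K < p :=
      lt_of_le_of_lt (Nat.mul_le_mul_left _ (by omega : K ≤ K + t + 1)) hS
    have hs : 1 ≤ p ^ 2 := Nat.one_le_pow _ _ hp.pos
    have h1 : 3 * i * (p ^ 2 - 1) ≤ (t * d) ^ 2 * p :=
      calc 3 * i * (p ^ 2 - 1) ≤ 3 * i * ((t * d) ^ 2 * K) := Nat.mul_le_mul_left _ hKy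
        _ = (t * d) ^ 2 * (3 * i * K) := Nat.mul_left_comm _ _ _
        _ ≤ _ := Nat.mul_le_mul_left _ hK.le
    have h3 : (t * d) ^ 2 * p + p ≤ 3 * i * p ^ 2 := by
      rw [← Nat.succ_mul, sq p, ← Nat.mul_assoc]
      exact Nat.mul_le_mul_right _ (by omega)
    have h4 : 3 * i * 2 ≤ p :=
      (Nat.mul_le_mul_left _ (by omega : 2 ≤ K + t + 1)).trans hS.le
    rw [Nat.mul_sub, Nat.mul_one] at h1
    omega
  rcases lt_or_ge i 14 with h14 | h14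
  · exact grid_case hp hr hdvd hi h14 hilo hihi hpq hd (by omega) hy hfail
  · exact big_p h14 hilo hihi hpq hdq (by omega) hy

end NumAux

open NumAux in
theorem numBound : NumBound := by
  intro p r d t m w L k n hp hr hd ht hm hw hwt _ hdvd hL1 hL2 hk hpw hn hV
  obtain ⟨i, hidef⟩ : ∃ i, i = Nat.log 2 p := ⟨_, rfl⟩
  have hp2 := hp.two_le
  have hilo : 2 ^ i ≤ p := hidef ▸ Nat.pow_log_le_self 2 hp.ne_zero
  have hihi : p < 2 ^ (i + 1) := hidef ▸ Nat.lt_pow_succ_log_self (by norm_num) p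
  have hi1 : 1 ≤ i := hidef ▸ Nat.log_pos (by norm_num) hp2
  suffices h : p ≤ 3 * i * (k + n - 1) by
    have hlog : (i : ℝ) ≤ Real.logb 2 p := by
      rw [hidef]; exact_mod_cast Real.natLog_le_logb p 2
    have hi' : (1 : ℝ) ≤ i := by exact_mod_cast hi1
    rw [div_le_iff₀ (by linarith)]
    have h' : (p : ℝ) ≤ 3 * i * ((k + n - 1 : ℕ) : ℝ) := by exact_mod_cast h
    nlinarith [mul_le_mul_of_nonneg_right hlog (Nat.cast_nonneg (α := ℝ) (k + n - 1))]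
  by_contra hcon
  rw [Nat.not_le] at hcon
  obtain ⟨K, rfl⟩ : ∃ K, k = K + 1 := ⟨k - 1, by omega⟩
  rw [Nat.add_sub_cancel] at hpw
  have hS : 3 * i * (K + t + 1) < p :=
    lt_of_le_of_lt (Nat.mul_le_mul_left _ (by omega)) hcon
  have hi5 : 5 ≤ i := by
    by_contra hlt
    have h9 : 3 * i * 3 < p := lt_of_le_of_lt (Nat.mul_le_mul_left _ (by omega)) hcon
    interval_cases i <;> omega
  have hkn : 9 * i ^ 2 * ((K + 1) * n) < p ^ 2 := by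
    have h1 : (K + 1) * n ≤ (K + 1 + n - 1) * (K + 1 + n - 1) :=
      Nat.mul_le_mul (by omega) (by omega)
    calc 9 * i ^ 2 * ((K + 1) * n) ≤ 9 * i ^ 2 * ((K + 1 + n - 1) * (K + 1 + n - 1)) :=
          Nat.mul_le_mul_left _ h1
      _ = (3 * i * (K + 1 + n - 1)) ^ 2 := by ring
      _ < p ^ 2 := Nat.pow_lt_pow_left hcon (by norm_num)
  have hq1 : 1 ≤ r ^ d := Nat.one_le_pow _ _ hr.pos
  have hq2 : 2 ≤ r ^ d := hr.two_le.trans (Nat.le_self_pow hd.ne' r)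
  have hpq : p + 1 ≤ r ^ d := by
    have := Nat.le_of_dvd (by omega) hdvd
    omega
  rcases lt_or_ge (r ^ d) 256 with hsq | hsq
  · have hd7 : d ≤ 7 := by
      by_contra h8
      have : 2 ^ 8 ≤ r ^ d := (Nat.pow_le_pow_right (by norm_num) (by omega : 8 ≤ d)).trans
        (Nat.pow_le_pow_left hr.two_le d)
      omega
    exact small_case hi1 hilo hihi (by omega) hd7 ht hw hL1 hpw hS hi5
  have hq : (r ^ d) ^ t ≤ (K + 1) * n * L ^ 2 := by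
    obtain ⟨u, rfl⟩ : ∃ u, m = u + 1 := ⟨m - 1, by omega⟩
    rw [Nat.add_sub_cancel] at hV
    refine Nat.le_of_mul_le_mul_right ?_ (show 0 < (r ^ d) ^ (u * t) from pow_pos (by omega) _)
    calc (r ^ d) ^ t * (r ^ d) ^ (u * t) = r ^ (d * (u + 1) * t) := by
          rw [← pow_add, ← pow_mul]; congr 1; ring
      _ ≤ (K + 1) * n * (L * 16 ^ (u * t)) ^ 2 := hV
      _ = (K + 1) * n * L ^ 2 * 256 ^ (u * t) := by
          rw [mul_pow L, ← pow_mul 16, Nat.mul_comm (u * t) 2, pow_mul 16]; ring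
      _ ≤ (K + 1) * n * L ^ 2 * (r ^ d) ^ (u * t) :=
          Nat.mul_le_mul_left _ (Nat.pow_le_pow_left hsq _)
  rcases (show w = 1 ∨ 2 ≤ w by omega) with rfl | hw2
  · rw [pow_one] at hL1 hpw
    exact rank_one_case hi5 hihi (by omega) (Nat.pow_le_pow_left hr.two_le d) ht hd hL1 hpw hq hS
      hkn
  · exact rank_ge_two_case hp hr hdvd hi5 hilo hihi (by omega) hd hw2 hwt hL1 hL2 hpw hq hS hkn

end Cfsg.Agent.H35.ClassPrime
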