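import Cfsg.Agent.H35.ClassPrime.Defs
import Cfsg.Agent.H86.BaseThree.Pairing
import Mathlib.LinearAlgebra.FreeModule.Finite.Matrix
import Mathlib.LinearAlgebra.Dual.Lemmas

/-!
An abelian subgroup of small index in a primitive solvable group of linear maps with all scalars:
the scalars of the layer give a field extension, the layer modulo its scalars a symplectic space.
-/

set_option autoImplicit false
set_option linter.unusedSectionVars false
set_option linter.style.haveILetI false

namespace Cfsg.Agent.H35.ClassPrime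

open Cfsg.Agent.H52.RegPair Cfsg.Agent.H86.BaseThree

universe u

namespace Prim

theorem comm_right {G : Type u} [Group G] {x y z : G}
    (h : y * (x * z * x⁻¹ * z⁻¹) = x * z * x⁻¹ * z⁻¹ * y) :
    x * (y * z) * x⁻¹ * (y * z)⁻¹ = (x * y * x⁻¹ * y⁻¹) * (x * z * x⁻¹ * z⁻¹) := by
  conv_rhs => rw [show x * z * x⁻¹ * z⁻¹ = y * (x * z * x⁻¹ * z⁻¹) * y⁻¹ by
    rw [h, mul_inv_cancel_right]]
  group

theorem comm_left {G : Type u} [Group G] {x x' y : G}
    (h : x * (x' * y * x'⁻¹ * y⁻¹) = x' * y * x'⁻¹ * y⁻¹ * x) :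
    x * x' * y * (x * x')⁻¹ * y⁻¹ = (x' * y * x'⁻¹ * y⁻¹) * (x * y * x⁻¹ * y⁻¹) := by
  rw [← mul_assoc (x' * y * x'⁻¹ * y⁻¹), ← mul_assoc (x' * y * x'⁻¹ * y⁻¹),
    ← mul_assoc (x' * y * x'⁻¹ * y⁻¹), ← h]
  group

/-- Counting along a map whose fibres lie in translates of one set. -/
theorem card_le_mul {α : Type u} [Group α] [Finite α] {β : Type u} [Finite β] (P : Set α)
    (f : α → β) (h : ∀ a a', f a = f a' → a⁻¹ * a' ∈ P) :
    Nat.card α ≤ Nat.card β * Nat.card P := by
  classical
  let s : β → α := Function.invFun f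
  let F : α → β × P := fun a =>
    (f a, ⟨(s (f a))⁻¹ * a, h _ _ (Function.invFun_eq ⟨a, rfl⟩)⟩)
  refine (Nat.card_le_card_of_injective F fun a a' e => ?_).trans_eq (Nat.card_prod β P)
  have e1 : f a = f a' := congrArg Prod.fst e
  have e2 : (s (f a))⁻¹ * a = (s (f a'))⁻¹ * a' := congrArg (fun z => ((z.2 : P) : α)) e
  rw [e1] at e2
  exact mul_left_cancel e2

section

variable {G : Type u} [Group G] [Finite G] {V : Type u} [AddCommGroup V] [DistribMulAction G V]
  [Finite V] [Nontrivial V] [FaithfulSMul G V] {K : Type u} [Field K] [Finite K] [Module K V]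
  (L : Layer G V K)

theorem U_normal : L.U.Normal := by
  refine ⟨fun u hu g => L.center_le _ (L.E_normal.conj_mem u (L.U_le hu) g) fun y hy => ?_⟩
  have h : g⁻¹ * y * g ∈ L.E := by simpa using L.E_normal.conj_mem y hy g⁻¹
  calc g * u * g⁻¹ * y = g * (u * (g⁻¹ * y * g)) * g⁻¹ := by group
    _ = g * ((g⁻¹ * y * g) * u) * g⁻¹ := by rw [L.commute_U hu h]
    _ = y * (g * u * g⁻¹) := by group

theorem σ_one (k : K) : L.σ 1 k = k := by
  refine eq_of_smul_eq' (V := V) fun v => ?_
  have := L.smul_σ 1 k v
  rw [one_smul, one_smul] at this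
  exact this.symm

theorem σ_mul (g h : G) (k : K) : L.σ (g * h) k = L.σ g (L.σ h k) := by
  refine eq_of_smul_eq' (V := V) fun v => ?_
  obtain ⟨w, rfl⟩ : ∃ w, (g * h) • w = v := ⟨(g * h)⁻¹ • v, smul_inv_smul _ _⟩
  rw [← L.smul_σ (g * h), mul_smul, mul_smul, L.smul_σ h, L.smul_σ g]

/-- The layer modulo the scalars, with its commutator pairing. -/
theorem exists_pairing : ∃ (W : Type u) (_ : CommGroup W) (_ : Finite W) (q : L.E →* W)
    (b : W →* W →* Kˣ), Function.Surjective q ∧ (∀ x : L.E, q x = 1 ↔ (x : G) ∈ L.U) ∧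
      AltPair b ∧ ∀ x y : L.E, b (q x) (q y) =
        L.ι ⟨(x : G) * y * (x : G)⁻¹ * (y : G)⁻¹, L.commutator_mem _ x.2 _ y.2⟩ := by
  classical
  haveI := L.E_normal
  let UE : Subgroup L.E := L.U.subgroupOf L.E
  haveI : UE.Normal := ⟨fun x hx y => by
    rw [Subgroup.mem_subgroupOf] at hx ⊢
    rw [Subgroup.coe_mul, Subgroup.coe_mul, Subgroup.coe_inv, ← L.commute_U hx y.2,
      mul_inv_cancel_right]
    exact hx⟩
  let W := L.E ⧸ UE
  have hWmk : ∀ x : L.E, (QuotientGroup.mk x : W) = 1 ↔ (x : G) ∈ L.U := fun x =>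
    (QuotientGroup.eq_one_iff x).trans Subgroup.mem_subgroupOf
  letI : CommGroup W :=
    { (inferInstance : Group W) with
      mul_comm := fun a b => by
        induction a using QuotientGroup.induction_on with
        | _ x =>
          induction b using QuotientGroup.induction_on with
          | _ y =>
            refine (QuotientGroup.eq).2 (Subgroup.mem_subgroupOf.2 ?_)
            have := L.commutator_mem _ (L.E.inv_mem y.2) _ (L.E.inv_mem x.2)
            simpa [mul_assoc] using this }
  let c : L.E → L.E → L.U := fun x y =>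
    ⟨(x : G) * y * (x : G)⁻¹ * (y : G)⁻¹, L.commutator_mem _ x.2 _ y.2⟩
  have hcu : ∀ (x y w : L.E), ((c x y : L.U) : G) * w = w * (c x y : G) := fun x y w =>
    L.commute_U (c x y).2 w.2
  let χ : L.E →* L.E →* Kˣ := MonoidHom.mk'
    (fun x => MonoidHom.mk' (fun y => L.ι (c x y)) (fun y z => by
      rw [← map_mul]
      exact congrArg L.ι (Subtype.ext (comm_right (hcu x z y).symm))))
    (fun x x' => MonoidHom.ext fun y => by
      show L.ι (c (x * x') y) = L.ι (c x y) * L.ι (c x' y)
      rw [mul_comm, ← map_mul]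
      exact congrArg L.ι (Subtype.ext (comm_left (hcu x' y x).symm)))
  have hχv : ∀ x y : L.E, χ x y = L.ι (c x y) := fun _ _ => rfl
  have hone : ∀ x y : L.E, (x : G) * y = y * x → c x y = 1 := fun x y e => Subtype.ext (by
    show (x : G) * y * (x : G)⁻¹ * (y : G)⁻¹ = 1
    rw [e]; group)
  let b₀ : W →* L.E →* Kˣ := QuotientGroup.lift UE χ (fun x hx =>
    MonoidHom.mem_ker.2 (MonoidHom.ext fun y => by
      rw [hχv, hone x y (L.commute_U (Subgroup.mem_subgroupOf.1 hx) y.2), map_one]
      rfl))
  let b₁ : W →* W →* Kˣ := QuotientGroup.lift UE b₀.flip (fun y hy =>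
    MonoidHom.mem_ker.2 (MonoidHom.ext fun a => by
      induction a using QuotientGroup.induction_on with
      | _ x =>
        show χ x y = 1
        rw [hχv, hone x y (L.commute_U (Subgroup.mem_subgroupOf.1 hy) x.2).symm, map_one]))
  let b : W →* W →* Kˣ := b₁.flip
  have hb : ∀ x y : L.E, b (QuotientGroup.mk x) (QuotientGroup.mk y) = L.ι (c x y) :=
    fun _ _ => rfl
  have hc1 : ∀ x y : L.E, b (QuotientGroup.mk x) (QuotientGroup.mk y) = 1 →
      (x : G) * y = y * x := by
    intro x y h
    rw [hb, ← map_one L.ι] at h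
    have h' := congrArg Subtype.val (L.ι_injective h)
    calc (x : G) * y = x * y * (x : G)⁻¹ * (y : G)⁻¹ * (y * x) := by group
      _ = y * x := by
        rw [show (x : G) * y * (x : G)⁻¹ * (y : G)⁻¹ = 1 from h', one_mul]
  have halt : AltPair b := by
    refine ⟨fun a => ?_, fun a ha => ?_⟩
    · induction a using QuotientGroup.induction_on with
      | _ x => rw [hb, hone x x rfl, map_one]
    · induction a using QuotientGroup.induction_on with
      | _ x => exact (hWmk x).2 (L.center_le x x.2 fun y hy => hc1 x ⟨y, hy⟩ (ha _))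
  exact ⟨W, inferInstance, inferInstance, QuotientGroup.mk' UE, b,
    QuotientGroup.mk'_surjective UE, hWmk, halt, hb⟩

/-- The centraliser of the scalars has at most `|E|` times as many elements as the pairing has
isometries, and the degree bounds the order of the pairing. -/
theorem bounds {W : Type u} [CommGroup W] [Finite W] (q : L.E →* W) (b : W →* W →* Kˣ)
    (hq : Function.Surjective q) (hker : ∀ x : L.E, q x = 1 ↔ (x : G) ∈ L.U) (hb : AltPair b)
    (hbv : ∀ x y : L.E, b (q x) (q y) =
      L.ι ⟨(x : G) * y * (x : G)⁻¹ * (y : G)⁻¹, L.commutator_mem _ x.2 _ y.2⟩) :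
    Nat.card (Subgroup.centralizer (L.U : Set G)) ≤
        Nat.card L.E * Nat.card {f : W ≃* W // ∀ x y, b (f x) (f y) = b x y} ∧
      Nat.card W ≤ Module.finrank K V * Module.finrank K V := by
  classical
  haveI := L.E_normal
  have hUn := U_normal L
  set B := Subgroup.centralizer (L.U : Set G) with hB
  have hBu : ∀ g ∈ B, ∀ u ∈ L.U, g * u * g⁻¹ = u := fun g hg u hu => by
    rw [← Subgroup.mem_centralizer_iff.1 hg u hu, mul_inv_cancel_right]
  let rr : W → L.E := Function.surjInv hq
  have hrr : ∀ w, q (rr w) = w := Function.surjInv_eq hq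
  let cg : G → (L.E ≃* L.E) := fun g => MulAut.conjNormal g
  have hcg : ∀ (g : G) (e : L.E), ((cg g e : L.E) : G) = g * e * g⁻¹ :=
    fun g e => MulAut.conjNormal_apply g e
  -- equal classes
  have heq : ∀ x y : L.E, q x = q y ↔ (x : G)⁻¹ * y ∈ L.U := fun x y => by
    rw [← inv_mul_eq_one, ← map_inv, ← map_mul, hker]
    rfl
  -- the map induced on the quotient
  let F : G → W → W := fun g w => q (cg g (rr w))
  have hF : ∀ (g : G) (x : L.E), F g (q x) = q (cg g x) := by
    intro g x
    rw [heq, hcg, hcg]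
    have h := hUn.conj_mem _ ((heq _ _).1 (hrr (q x))) g
    simpa [mul_assoc] using h
  have hFmul : ∀ (g h : G) (w : W), F g (F h w) = F (g * h) w := by
    intro g h w
    show F g (q (cg h (rr w))) = q (cg (g * h) (rr w))
    rw [hF]
    refine congrArg q (Subtype.ext ?_)
    rw [hcg, hcg, hcg]; group
  have hF1 : ∀ w, F 1 w = w := fun w => by
    show q (cg 1 (rr w)) = w
    rw [show cg 1 (rr w) = rr w from Subtype.ext (by rw [hcg]; group), hrr]
  have hFhom : ∀ (g : G) (v w : W), F g (v * w) = F g v * F g w := by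
    intro g v w
    obtain ⟨x, rfl⟩ := hq v
    obtain ⟨y, rfl⟩ := hq w
    rw [← map_mul, hF, hF, hF, map_mul, map_mul]
  let FE : G → (W ≃* W) := fun g =>
    { toFun := F g
      invFun := F g⁻¹
      left_inv := fun w => by rw [hFmul, inv_mul_cancel, hF1]
      right_inv := fun w => by rw [hFmul, mul_inv_cancel, hF1]
      map_mul' := hFhom g }
  have hiso : ∀ g ∈ B, ∀ x y : W, b (FE g x) (FE g y) = b x y := by
    intro g hg v w
    obtain ⟨x, rfl⟩ := hq v
    obtain ⟨y, rfl⟩ := hq w
    show b (F g (q x)) (F g (q y)) = _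
    rw [hF, hF, hbv, hbv]
    refine congrArg L.ι (Subtype.ext ?_)
    show (cg g x : G) * cg g y * (cg g x : G)⁻¹ * (cg g y : G)⁻¹ = x * y * (x : G)⁻¹ * (y : G)⁻¹
    rw [hcg, hcg]
    refine Eq.trans ?_ (hBu g hg _ (L.commutator_mem _ x.2 _ y.2))
    group
  let P : Set B := {k | ∀ w, F (k : G) w = w}
  constructor
  · have h1 : Nat.card B ≤ Nat.card {f : W ≃* W // ∀ x y, b (f x) (f y) = b x y} * Nat.card P := by
      haveI : Finite (W ≃* W) := Finite.of_injective (fun f : W ≃* W => ⇑f) DFunLike.coe_injective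
      refine card_le_mul P (fun g => ⟨FE g, hiso g g.2⟩) fun g g' e => ?_
      intro w
      have e' : FE (g : G) = FE g' := congrArg Subtype.val e
      have h := DFunLike.congr_fun e' w
      change F g w = F g' w at h
      rw [Subgroup.coe_mul, Subgroup.coe_inv, ← hFmul, ← h, hFmul, inv_mul_cancel, hF1]
    -- elements fixing every class
    have hPmem : ∀ k : P, ∀ x : L.E,
        ((k : B) : G) * x * ((k : B) : G)⁻¹ * (x : G)⁻¹ ∈ L.U := by
      intro k x
      have h := k.2 (q x)
      rw [hF, heq, hcg] at h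
      have h' := hUn.conj_mem _ (L.U.inv_mem h) (((k : B) : G) * x * ((k : B) : G)⁻¹)
      simpa [mul_assoc] using h'
    let d : P → (L.E →* Kˣ) := fun k => MonoidHom.mk'
      (fun x => L.ι ⟨_, hPmem k x⟩)
      (fun x y => by
        rw [← map_mul]
        refine congrArg L.ι (Subtype.ext ?_)
        have hc := L.commute_U (hPmem k y) x.2
        exact comm_right hc.symm)
    have hd : ∀ k, q.ker ≤ (d k).ker := by
      intro k x hx
      have hxU := (hker x).1 hx
      refine MonoidHom.mem_ker.2 ((congrArg L.ι (Subtype.ext ?_)).trans (map_one L.ι))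
      show ((k : B) : G) * x * ((k : B) : G)⁻¹ * (x : G)⁻¹ = 1
      rw [hBu _ (k : B).2 _ hxU, mul_inv_cancel]
    let d' : P → (W →* Kˣ) := fun k => q.liftOfSurjective hq ⟨d k, hd k⟩
    have hd' : ∀ k k' : P, d' k = d' k' → ∀ y ∈ L.E,
        ((k : B) : G) * y * ((k : B) : G)⁻¹ = ((k' : B) : G) * y * ((k' : B) : G)⁻¹ := by
      intro k k' e y hy
      have e1 : d k = d k' :=
        congrArg Subtype.val ((q.liftOfSurjective hq).injective e)
      have e2 := congrArg Subtype.val (L.ι_injective (DFunLike.congr_fun e1 ⟨y, hy⟩))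
      exact mul_right_cancel (b := y⁻¹) e2
    obtain ⟨hfin, hle⟩ := card_hom_le (K := K) W
    haveI := hfin
    let sP : (W →* Kˣ) → B := fun ψ => if h : ∃ k : P, d' k = ψ then (h.choose : B) else 1
    let Ψ : P → (W →* Kˣ) × L.U := fun k => (d' k, ⟨((sP (d' k) : B) : G)⁻¹ * (k : B), by
      have hex : ∃ k' : P, d' k' = d' k := ⟨k, rfl⟩
      simp only [sP, dif_pos hex]
      refine L.self_centralizing _ fun y hy => ?_
      have hh := hd' _ _ hex.choose_spec y hy
      set a := ((hex.choose : B) : G)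
      calc a⁻¹ * ((k : B) : G) * y = a⁻¹ * (((k : B) : G) * y * ((k : B) : G)⁻¹) * (k : B) := by
            group
        _ = a⁻¹ * (a * y * a⁻¹) * (k : B) := by rw [hh]
        _ = y * (a⁻¹ * (k : B)) := by group⟩)
    have h2 : Nat.card P ≤ Nat.card W * Nat.card L.U := by
      refine (Nat.card_le_card_of_injective Ψ fun k k' e => ?_).trans
        ((Nat.card_prod _ _).le.trans (Nat.mul_le_mul_right _ hle))
      have e1 : d' k = d' k' := congrArg Prod.fst e
      have e2 : ((sP (d' k) : B) : G)⁻¹ * (k : B) = ((sP (d' k') : B) : G)⁻¹ * (k' : B) :=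
        congrArg (fun z => ((z.2 : L.U) : G)) e
      rw [e1] at e2
      exact Subtype.ext (Subtype.ext (mul_left_cancel e2))
    have h3 : Nat.card L.E = Nat.card W * Nat.card L.U := by
      rw [← q.ker.card_mul_index, Subgroup.index_ker, MonoidHom.range_eq_top.2 hq,
        Nat.card_congr Subgroup.topEquiv.toEquiv, mul_comm]
      congr 1
      rw [show q.ker = L.U.subgroupOf L.E from Subgroup.ext fun x =>
        (hker x).trans Subgroup.mem_subgroupOf.symm,
        Nat.card_congr (Subgroup.subgroupOfEquivOfLe L.U_le).toEquiv]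
    calc Nat.card B ≤ _ := h1
      _ ≤ Nat.card {f : W ≃* W // ∀ x y, b (f x) (f y) = b x y} * (Nat.card W * Nat.card L.U) :=
        Nat.mul_le_mul_left _ h2
      _ = _ := by rw [h3, mul_comm]
  · -- representatives of the classes are linearly independent endomorphisms
    let T : W → Module.End K V := fun w =>
      { toFun := fun v => ((rr w : L.E) : G) • v
        map_add' := smul_add _
        map_smul' := fun k v => L.linear _ (rr w).2 k v }
    haveI := Fintype.ofFinite W
    have hli : LinearIndependent K T := by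
      rw [Fintype.linearIndependent_iff]
      intro c hc w₀
      have h0 : ∀ v : V, ∑ w, c w • ((rr w : L.E) : G) • v = 0 := fun v => by
        simpa [T] using LinearMap.congr_fun hc v
      have h1 : ∀ (y : L.E) (v : V),
          ∑ w, ((b (q y) w : Kˣ) : K) • c w • ((rr w : L.E) : G) • v = 0 := by
        intro y v
        refine Eq.trans (Finset.sum_congr rfl fun w _ => ?_)
          ((Finset.smul_sum).symm.trans ((congrArg ((y : G) • ·) (h0 ((y : G)⁻¹ • v))).trans
            (smul_zero _)))
        rw [L.linear _ y.2, smul_comm]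
        refine congrArg (c w • ·) ?_
        have e := hbv y (rr w)
        rw [hrr] at e
        rw [e, ← L.smul_ι]
        simp [← mul_smul, mul_assoc]
      have hχ : LinearIndependent K (fun w : W => fun z : W => ((b z w : Kˣ) : K)) := by
        refine (linearIndependent_monoidHom W K).comp
          (fun w : W => (Units.coeHom K).comp (b.flip w)) fun w w' e => ?_
        have hz : ∀ z, b z w = b z w' := fun z => Units.ext (DFunLike.congr_fun e z)
        refine (inv_mul_eq_one.1 (hb.nondeg _ fun z => hb.eq_one_symm ?_))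
        rw [map_mul, map_inv, hz, inv_mul_cancel]
      obtain ⟨v, hv⟩ := exists_ne (0 : V)
      have hz : c w₀ • ((rr w₀ : L.E) : G) • v = 0 := by
        rw [← Module.forall_dual_apply_eq_zero_iff K]
        intro φ
        have := Fintype.linearIndependent_iff.1 hχ
          (fun w => φ (c w • ((rr w : L.E) : G) • v)) (funext fun z => ?_) w₀
        · exact this
        obtain ⟨y, rfl⟩ := hq z
        have h := congrArg φ (h1 y v)
        rw [map_sum, map_zero] at h
        rw [Finset.sum_apply, Pi.zero_apply]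
        refine Eq.trans (Finset.sum_congr rfl fun w _ => ?_) h
        simp only [Pi.smul_apply, map_smul, smul_eq_mul]
        ring
      rcases smul_eq_zero.1 hz with h | h
      · exact h
      · exact absurd ((smul_eq_zero_iff_eq _).1 h) hv
    haveI : Module.Finite K V := Module.Finite.of_finite
    have := hli.fintype_card_le_finrank
    rwa [← Nat.card_eq_fintype_card, Module.finrank_linearMap] at this

end

end Prim

open Prim in
/-- An abelian subgroup of small index in a primitive solvable group containing all scalars. -/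
theorem primAbelian (hsymp : SympBound.{u}) : PrimAbelian.{u} := by
  intro K _ _ G _ _ V _ _ _ _ _ _ hs hlin hscal hirr hnim
  classical
  obtain ⟨K', fK', mK', hK', ⟨L⟩, -⟩ := exists_layer hs hirr hnim
  letI := fK'
  letI := mK'
  haveI := hK'
  haveI := L.E_normal
  have hUn := U_normal L
  -- the scalars lie in the layer
  let S : Subgroup G :=
    { carrier := {g | ∃ k : K, ∀ v : V, g • v = k • v}
      one_mem' := ⟨1, fun v => by rw [one_smul, one_smul]⟩
      mul_mem' := by
        rintro a b ⟨k, hk⟩ ⟨l, hl⟩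
        exact ⟨k * l, fun v => by rw [mul_smul, hl, hk, mul_smul]⟩
      inv_mem' := by
        rintro a ⟨k, hk⟩
        have hk0 : k ≠ 0 := fun h => by
          obtain ⟨v, hv⟩ := exists_ne (0 : V)
          exact hv ((smul_eq_zero_iff_eq a).1 (by rw [hk, h, zero_smul]))
        exact ⟨k⁻¹, fun v => by rw [inv_smul_eq_iff, hk, smul_smul, mul_inv_cancel₀ hk0, one_smul]⟩ }
  have hScen : ∀ s ∈ S, ∀ g : G, s * g = g * s := by
    rintro s ⟨k, hk⟩ g
    exact eq_of_smul_eq_smul (α := V) fun v => by rw [mul_smul, mul_smul, hk, hk, hlin]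
  haveI : S.Normal := ⟨fun s hs g => by
    rw [← hScen s hs g, mul_inv_cancel_right]; exact hs⟩
  haveI := hUn
  have hUab : ∀ a ∈ L.U, ∀ b ∈ L.U, a * b = b * a := fun a ha b hb =>
    L.commute_U ha (L.U_le hb)
  have hSU : S ≤ L.U := by
    refine le_trans (le_sup_right : S ≤ L.U ⊔ S) (L.maximal _ inferInstance ?_ le_sup_left)
    intro a ha b hb
    obtain ⟨a1, ha1, a2, ha2, rfl⟩ := Subgroup.mem_sup_of_normal_left.1 ha
    obtain ⟨b1, hb1, b2, hb2, rfl⟩ := Subgroup.mem_sup_of_normal_left.1 hb
    calc a1 * a2 * (b1 * b2) = a1 * (a2 * b1) * b2 := by group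
      _ = (a1 * b1) * (a2 * b2) := by rw [hScen a2 ha2]; group
      _ = (b1 * a1) * (b2 * a2) := by rw [hUab a1 ha1 b1 hb1, hScen a2 ha2 b2]
      _ = b1 * (a1 * b2) * a2 := by group
      _ = b1 * b2 * (a1 * a2) := by rw [← hScen b2 hb2 a1]; group
  -- the extension of fields
  have hφ : ∀ k : K, ∃ c : K', ∀ v : V, c • v = k • v := by
    intro k
    by_cases hk : k = 0
    · exact ⟨0, fun v => by rw [hk, zero_smul, zero_smul]⟩
    · obtain ⟨g, hg⟩ := hscal k hk
      exact ⟨(L.ι ⟨g, hSU ⟨k, hg⟩⟩ : K'), fun v =>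
        (L.smul_ι ⟨g, hSU ⟨k, hg⟩⟩ v).symm.trans (hg v)⟩
  choose φ hφv using hφ
  let φh : K →+* K' :=
    { toFun := φ
      map_one' := eq_of_smul_eq' (V := V) fun v => by rw [hφv, one_smul, one_smul]
      map_mul' := fun a b => eq_of_smul_eq' (V := V) fun v => by
        rw [hφv, mul_smul, mul_smul, hφv, hφv]
      map_zero' := eq_of_smul_eq' (V := V) fun v => by rw [hφv, zero_smul, zero_smul]
      map_add' := fun a b => eq_of_smul_eq' (V := V) fun v => by
        rw [hφv, add_smul, add_smul, hφv, hφv] }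
  letI : Algebra K K' := φh.toAlgebra
  haveI : IsScalarTower K K' V := ⟨fun k c v => by
    rw [Algebra.smul_def, mul_smul]
    exact hφv k _⟩
  haveI : Module.Finite K K' := Module.Finite.of_finite
  haveI : Module.Finite K' V := Module.Finite.of_finite
  set j := Module.finrank K K' with hjdef
  set m := Module.finrank K' V with hmdef
  have hn : Module.finrank K V = j * m := (Module.finrank_mul_finrank K K' V).symm
  -- the centraliser of the scalars of the layer has index at most the degree
  set B := Subgroup.centralizer (L.U : Set G) with hBdef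
  have hBj : B.index ≤ j := by
    let σA : G → (K' →ₐ[K] K') := fun g =>
      { L.σ g with
        commutes' := fun k => eq_of_smul_eq' (V := V) fun v => by
          obtain ⟨w, rfl⟩ : ∃ w, g • w = v := ⟨g⁻¹ • v, smul_inv_smul g v⟩
          show L.σ g (φ k) • g • w = φ k • g • w
          rw [← L.smul_σ, hφv, hφv, hlin] }
    refine le_trans ?_ (card_algHom_le_finrank K K' K')
    rw [Subgroup.index]
    refine Nat.card_le_card_of_injective (fun x : G ⧸ B => σA x.out) fun x y e => ?_
    rw [← QuotientGroup.out_eq' x, ← QuotientGroup.out_eq' y, QuotientGroup.eq]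
    set g := x.out
    set h := y.out
    have hid : ∀ k : K', L.σ (g⁻¹ * h) k = k := fun k => by
      have e' : L.σ g k = L.σ h k := DFunLike.congr_fun e k
      rw [σ_mul, ← e', ← σ_mul, inv_mul_cancel, σ_one]
    refine Subgroup.mem_centralizer_iff.2 fun u hu => ?_
    refine eq_of_smul_eq_smul (α := V) fun v => ?_
    have hι : ∀ w : V, u • w = (L.ι ⟨u, hu⟩ : K') • w := L.smul_ι ⟨u, hu⟩
    rw [mul_smul u, mul_smul (g⁻¹ * h) u, hι, hι, L.smul_σ, hid]
  -- the pairing
  obtain ⟨W, iW, hWfin, q, b, hq, hker, hb, hbv⟩ := exists_pairing L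
  letI := iW
  haveI := hWfin
  obtain ⟨hBE, hWm⟩ := bounds L q b hq hker hb hbv
  obtain ⟨e, L₀, he, hWe, hL₀, hiso, hbound⟩ := hsymp K' W b hb fun w => by
    obtain ⟨x, rfl⟩ := hq w
    obtain ⟨N, hN, hxN⟩ := L.squarefree x x.2
    exact ⟨N, hN, by rw [← map_pow, hker, Subgroup.coe_pow]; exact hxN⟩
  let A : Subgroup G := (L₀.comap q).map L.E.subtype
  refine ⟨A, ?_, ?_⟩
  · rintro _ ⟨x, hx, rfl⟩ _ ⟨y, hy, rfl⟩
    have h := hiso _ hx _ hy
    rw [hbv, ← map_one L.ι] at h
    have h' := congrArg Subtype.val (L.ι_injective h)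
    calc (x : G) * y = x * y * (x : G)⁻¹ * (y : G)⁻¹ * (y * x) := by group
      _ = y * x := by
        rw [show (x : G) * y * (x : G)⁻¹ * (y : G)⁻¹ = 1 from h', one_mul]
  have hA : Nat.card A * e = Nat.card L.E := by
    rw [Subgroup.card_map_of_injective L.E.subtype_injective, ← (L₀.comap q).card_mul_index,
      Subgroup.index_comap_of_surjective _ hq]
    congr 1
    have h := L₀.card_mul_index
    rw [hL₀, hWe] at h
    exact (Nat.eq_of_mul_eq_mul_left he h).symm
  have hem : e ≤ m := Nat.mul_self_le_mul_self_iff.1 (hWe ▸ hWm)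
  set g := Nat.card {f : W ≃* W // ∀ x y, b (f x) (f y) = b x y}
  have hidx : A.index ≤ j * g * e := by
    refine Nat.le_of_mul_le_mul_left ?_ (Nat.card_pos (α := A))
    calc Nat.card A * A.index = B.index * Nat.card B := by
          rw [A.card_mul_index, mul_comm, B.card_mul_index]
      _ ≤ j * (Nat.card L.E * g) := Nat.mul_le_mul hBj hBE
      _ = Nat.card A * (j * g * e) := by rw [← hA]; ring
  have hj : 0 < j := Module.finrank_pos
  have hm : 0 < m := Module.finrank_pos
  rw [hn]
  calc 16 * A.index ≤ 16 * (j * g * e) := Nat.mul_le_mul_left _ hidx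
    _ = j * (16 * e * g) := by ring
    _ ≤ j * 16 ^ m := Nat.mul_le_mul_left _ (hbound.trans (Nat.pow_le_pow_right (by norm_num) hem))
    _ ≤ 16 ^ (j * m) := by
      obtain ⟨i, hi⟩ : ∃ i, j = i + 1 := ⟨j - 1, by omega⟩
      rw [hi, show (i + 1) * m = i * m + m from add_one_mul i m, pow_add]
      refine Nat.mul_le_mul_right _ ?_
      exact (Nat.lt_pow_self (by norm_num : 1 < 16)).trans_le
        (Nat.pow_le_pow_right (by norm_num) (Nat.le_mul_of_pos_right _ hm))

end Cfsg.Agent.H35.ClassPrime
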