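import Cfsg.Agent.H35.ClassPrime.Defs
import Cfsg.Agent.H19.Fitting
import Cfsg.Agent.H19.MinimalNormal
import Cfsg.Agent.H19.Misc
import Cfsg.Agent.H51.Basic
import Cfsg.Agent.S0070

/-!
A minimal solvable group with `p` dividing the index of the Fitting subgroup is a semidirect
product of a faithful irreducible module by a group with a nontrivial normal abelian subgroup
of exponent `p`.
-/

set_option autoImplicit false
set_option linter.unusedSectionVars false
set_option linter.style.haveILetI false

namespace Cfsg.Agent.H35.ClassPrime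

open Cfsg.Agent.H52.RegPair
open scoped IsMulCommutative

universe u

variable {G : Type u} [Group G] [Finite G]

theorem card_conjClasses_quotient_le (N : Subgroup G) [N.Normal] :
    Nat.card (ConjClasses (G ⧸ N)) ≤ Nat.card (ConjClasses G) :=
  Nat.card_le_card_of_surjective (ConjClasses.map (QuotientGroup.mk' N))
    (ConjClasses.map_surjective (QuotientGroup.mk'_surjective N))

/-- The Frattini subgroup lies in `F(G)`, and the two indices agree. -/
theorem index_fitting_quotient_frattini :
    (Cfsg.fittingSubgroup (G ⧸ frattini G)).index = (Cfsg.fittingSubgroup G).index := by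
  have hnil : Group.IsNilpotent (frattini G) := frattini_nilpotent
  have hle : frattini G ≤ Cfsg.fittingSubgroup G := H19.le_fitting inferInstance hnil
  rw [S0070.result, Subgroup.index_map_eq _ (QuotientGroup.mk'_surjective _)
    (by rw [QuotientGroup.ker_mk']; exact hle)]

/-- If two disjoint normal subgroups have quotients with Fitting index prime to `p`, so has the
group. -/
theorem not_dvd_index_fitting_of_two {p : ℕ} [hp : Fact p.Prime] (N M : Subgroup G) [N.Normal]
    [M.Normal] (hNM : N ⊓ M = ⊥) (hN : ¬ p ∣ (Cfsg.fittingSubgroup (G ⧸ N)).index)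
    (hM : ¬ p ∣ (Cfsg.fittingSubgroup (G ⧸ M)).index) :
    ¬ p ∣ (Cfsg.fittingSubgroup G).index := by
  haveI hFN := H19.fitting_normal (G ⧸ N)
  haveI hFM := H19.fitting_normal (G ⧸ M)
  set A := (Cfsg.fittingSubgroup (G ⧸ N)).comap (QuotientGroup.mk' N) with hA
  set B := (Cfsg.fittingSubgroup (G ⧸ M)).comap (QuotientGroup.mk' M) with hB
  haveI : A.Normal := hFN.comap _
  haveI : B.Normal := hFM.comap _
  rw [← Subgroup.index_comap_of_surjective _ (QuotientGroup.mk'_surjective N), ← hA] at hN
  rw [← Subgroup.index_comap_of_surjective _ (QuotientGroup.mk'_surjective M), ← hB] at hM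
  have hle : A ⊓ B ≤ Cfsg.fittingSubgroup G := by
    refine H19.le_fitting inferInstance ?_
    haveI := H19.fitting_isNilpotent (G := G ⧸ N)
    haveI := H19.fitting_isNilpotent (G := G ⧸ M)
    let f : ↥(A ⊓ B) →*
        ↥(Cfsg.fittingSubgroup (G ⧸ N)) × ↥(Cfsg.fittingSubgroup (G ⧸ M)) :=
      MonoidHom.prod
        (((QuotientGroup.mk' N).subgroupComap (Cfsg.fittingSubgroup (G ⧸ N))).comp
          (Subgroup.inclusion inf_le_left))
        (((QuotientGroup.mk' M).subgroupComap (Cfsg.fittingSubgroup (G ⧸ M))).comp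
          (Subgroup.inclusion inf_le_right))
    refine Subgroup.isNilpotent_of_ker_le_center f.rangeRestrict ?_
    rw [MonoidHom.ker_rangeRestrict, (MonoidHom.ker_eq_bot_iff f).2
      ((injective_iff_map_eq_one f).2 fun x hx => ?_)]
    · exact bot_le
    have h1 : ((f x).1 : G ⧸ N) = 1 := by rw [hx]; rfl
    have h2 : ((f x).2 : G ⧸ M) = 1 := by rw [hx]; rfl
    have h3 : (x : G) ∈ N ⊓ M :=
      ⟨(QuotientGroup.eq_one_iff (x : G)).1 h1, (QuotientGroup.eq_one_iff (x : G)).1 h2⟩
    rw [hNM, Subgroup.mem_bot] at h3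
    exact Subtype.ext h3
  intro hd
  have h2 := hd.trans (Subgroup.index_dvd_of_le hle)
  rw [← Subgroup.relIndex_mul_index (inf_le_left : A ⊓ B ≤ A)] at h2
  rcases hp.out.dvd_mul.1 h2 with h | h
  · refine hM (h.trans ?_)
    rw [inf_comm, Subgroup.inf_relIndex_right]
    exact Subgroup.relIndex_dvd_index_of_normal B A
  · exact hN h

/-- The conjugation action of a complement on an abelian normal subgroup, written additively. -/
@[instance_reducible]
noncomputable def conjModule (N K : Subgroup G) [hN : N.Normal] :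
    DistribMulAction K (Additive N) where
  smul k v := Additive.ofMul ⟨(k : G) * (v.toMul : G) * (k : G)⁻¹, hN.conj_mem _ v.toMul.2 _⟩
  one_smul v := congrArg Additive.ofMul (Subtype.ext (by
    show ((1 : K) : G) * (v.toMul : G) * ((1 : K) : G)⁻¹ = (v.toMul : G)
    simp))
  mul_smul a b v := congrArg Additive.ofMul (Subtype.ext (by
    show ((a * b : K) : G) * (v.toMul : G) * ((a * b : K) : G)⁻¹ =
      (a : G) * ((b : G) * (v.toMul : G) * (b : G)⁻¹) * (a : G)⁻¹
    simp only [Subgroup.coe_mul, mul_inv_rev, mul_assoc]))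
  smul_zero k := congrArg Additive.ofMul (Subtype.ext (by simp))
  smul_add k v w := congrArg Additive.ofMul (Subtype.ext (by
    show (k : G) * ((v.toMul : G) * (w.toMul : G)) * (k : G)⁻¹ =
      ((k : G) * (v.toMul : G) * (k : G)⁻¹) * ((k : G) * (w.toMul : G) * (k : G)⁻¹)
    group))

theorem toMul_smul (N K : Subgroup G) [N.Normal] (k : K) (v : Additive N) :
    letI := conjModule N K
    (((k • v).toMul : N) : G) = (k : G) * (v.toMul : G) * (k : G)⁻¹ := rfl

/-- Classes of a semidirect product by an abelian kernel: those of the complement together with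
the orbits on the kernel. -/
theorem classes_add_orbits_le (N K : Subgroup G) [N.Normal] [IsMulCommutative N]
    (hc : Subgroup.IsComplement' N K) :
    letI := conjModule N K
    Nat.card (ConjClasses K) + Nat.card (MulAction.orbitRel.Quotient K (Additive N))
      ≤ Nat.card (ConjClasses G) + 1 := by
  letI := conjModule N K
  have hcomm : ∀ a ∈ N, ∀ b ∈ N, a * b = b * a := fun a ha b hb =>
    congrArg Subtype.val (mul_comm' (⟨a, ha⟩ : N) ⟨b, hb⟩)
  have hdis : ∀ x ∈ N, x ∈ K → x = 1 := fun x h1 h2 => by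
    have : x ∈ N ⊓ K := ⟨h1, h2⟩
    rwa [hc.disjoint.eq_bot, Subgroup.mem_bot] at this
  let f₁ : ConjClasses K → ConjClasses G := ConjClasses.map K.subtype
  let f₂ : MulAction.orbitRel.Quotient K (Additive N) → ConjClasses G :=
    Quotient.lift (fun v => ConjClasses.mk (v.toMul : G)) (by
      rintro v w ⟨k, hk⟩
      refine (ConjClasses.mk_eq_mk_iff_isConj.2 (isConj_iff.2 ⟨(k : G), ?_⟩)).symm
      rw [← hk]; rfl)
  have inj₁ : Function.Injective f₁ := by
    intro a b
    refine Quotient.inductionOn₂ a b fun x y h => ?_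
    obtain ⟨g, hg⟩ := isConj_iff.1 (ConjClasses.mk_eq_mk_iff_isConj.1 h)
    obtain ⟨n, hn, k, hk, rfl⟩ := H19.exists_mul_of_sup_eq_top hc.sup_eq_top g
    refine Quotient.sound (isConj_iff.2 ⟨⟨k, hk⟩, Subtype.ext ?_⟩)
    simp only [Subgroup.coe_mul, Subgroup.coe_inv]
    change n * k * (x : G) * (n * k)⁻¹ = (y : G) at hg
    set x' := k * (x : G) * k⁻¹ with hx'
    have hx'K : x' ∈ K := K.mul_mem (K.mul_mem hk x.2) (K.inv_mem hk)
    have he : n * x' * n⁻¹ = y := by rw [← hg, hx']; group
    have h1 : x'⁻¹ * (y : G) = 1 := by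
      refine hdis _ ?_ (K.mul_mem (K.inv_mem hx'K) y.2)
      rw [← he, show x'⁻¹ * (n * x' * n⁻¹) = (x'⁻¹ * n * (x'⁻¹)⁻¹) * n⁻¹ by group]
      exact N.mul_mem (Subgroup.Normal.conj_mem ‹_› n hn _) (N.inv_mem hn)
    exact inv_mul_eq_one.1 h1
  have inj₂ : Function.Injective f₂ := by
    intro a b
    refine Quotient.inductionOn₂ a b fun x y h => ?_
    obtain ⟨g, hg⟩ := isConj_iff.1 (ConjClasses.mk_eq_mk_iff_isConj.1 h)
    obtain ⟨n, hn, k, hk, rfl⟩ := H19.exists_mul_of_sup_eq_top hc.sup_eq_top g
    refine (Quotient.sound (s := MulAction.orbitRel K (Additive N))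
      (MulAction.orbitRel_apply.2 (MulAction.mem_orbit_iff.2 ⟨⟨k, hk⟩, ?_⟩))).symm
    apply Additive.toMul.injective
    refine Subtype.ext ?_
    rw [toMul_smul]
    rw [← hg]
    have hxN : k * (x.toMul : G) * k⁻¹ ∈ N := Subgroup.Normal.conj_mem ‹_› _ x.toMul.2 k
    calc k * (x.toMul : G) * k⁻¹
        = n * n⁻¹ * (k * (x.toMul : G) * k⁻¹) := by group
      _ = n * (n⁻¹ * (k * (x.toMul : G) * k⁻¹)) := mul_assoc _ _ _
      _ = n * ((k * (x.toMul : G) * k⁻¹) * n⁻¹) := by rw [hcomm _ (N.inv_mem hn) _ hxN]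
      _ = n * k * (x.toMul : G) * (n * k)⁻¹ := by group
  have hinter : Set.range f₁ ∩ Set.range f₂ ⊆ {ConjClasses.mk 1} := by
    rintro c ⟨⟨a, rfl⟩, ⟨b, hb⟩⟩
    revert hb
    refine Quotient.inductionOn₂ a b fun x y h => ?_
    obtain ⟨g, hg⟩ := isConj_iff.1 (ConjClasses.mk_eq_mk_iff_isConj.1 h)
    have hg' : g * (y.toMul : G) * g⁻¹ = (x : G) := hg
    have hxN : (x : G) ∈ N := hg' ▸ Subgroup.Normal.conj_mem ‹_› _ y.toMul.2 g
    show ConjClasses.mk (x : G) = ConjClasses.mk 1
    rw [hdis _ hxN x.2]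
  have h1 : Set.ncard (Set.range f₁) = Nat.card (ConjClasses K) := by
    rw [← Nat.card_coe_set_eq, Nat.card_range_of_injective inj₁]
  have h2 : Set.ncard (Set.range f₂) = Nat.card (MulAction.orbitRel.Quotient K (Additive N)) := by
    rw [← Nat.card_coe_set_eq, Nat.card_range_of_injective inj₂]
  have h3 := Set.ncard_union_add_ncard_inter (Set.range f₁) (Set.range f₂)
  have h4 : (Set.range f₁ ∪ Set.range f₂).ncard ≤ Nat.card (ConjClasses G) := by
    rw [← Set.ncard_univ]
    exact Set.ncard_le_ncard (Set.subset_univ _) (Set.toFinite _)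
  have h5 : (Set.range f₁ ∩ Set.range f₂).ncard ≤ 1 := by
    rw [← Set.ncard_singleton (ConjClasses.mk (1 : G))]
    exact Set.ncard_le_ncard hinter (Set.toFinite _)
  omega

/-- A nontrivial normal elementary abelian `p`-subgroup. -/
theorem exists_elementary_of_dvd_fitting {p : ℕ} [hp : Fact p.Prime]
    (h : p ∣ Nat.card (Cfsg.fittingSubgroup G)) :
    ∃ W : Subgroup G, W.Normal ∧ W ≠ ⊥ ∧ IsPGroup p W ∧ (∀ x ∈ W, ∀ y ∈ W, x * y = y * x) ∧
      ∀ x ∈ W, x ^ p = 1 := by
  haveI := H19.fitting_normal G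
  haveI := H19.fitting_isNilpotent (G := G)
  obtain ⟨P⟩ : Nonempty (Sylow p (Cfsg.fittingSubgroup G)) := inferInstance
  haveI : (P : Subgroup (Cfsg.fittingSubgroup G)).Normal := inferInstance
  haveI := P.characteristic_of_normal ‹_›
  set Q := (P : Subgroup (Cfsg.fittingSubgroup G)).map (Cfsg.fittingSubgroup G).subtype with hQ
  haveI : Q.Normal := ConjAct.normal_of_characteristic_of_normal
  have hQp : IsPGroup p Q := P.isPGroup'.map _
  have hQ1 : Q ≠ ⊥ := by
    intro h0
    rw [hQ, Subgroup.map_eq_bot_iff_of_injective _ (Cfsg.fittingSubgroup G).subtype_injective] at h0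
    exact P.ne_bot_of_dvd_card h h0
  haveI := hQp.isNilpotent
  obtain ⟨A, q, hA, hAQ, hA0, hc, hq, hqA, hpow⟩ :=
    H19.exists_normal_elementary_le Q inferInstance hQ1
  obtain ⟨x, hx, hx1⟩ := (Subgroup.ne_bot_iff_exists_ne_one.1 hA0).elim
    fun x hx => (⟨(x : G), x.2, fun h => hx (Subtype.ext h)⟩ : ∃ y, y ∈ A ∧ y ≠ 1)
  haveI := Fact.mk hq
  have hqp : q = p := by
    have h1 : orderOf x = q := orderOf_eq_prime (hpow x hx) hx1
    obtain ⟨k, hk⟩ := hQp ⟨x, hAQ hx⟩
    have h2 : orderOf x ∣ p ^ k := orderOf_dvd_of_pow_eq_one (congrArg Subtype.val hk)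
    exact (Nat.prime_dvd_prime_iff_eq hq hp.out).1 (hq.dvd_of_dvd_pow (h1 ▸ h2))
  subst hqp
  exact ⟨A, hA, hA0, hqA, fun a ha b hb =>
    congrArg Subtype.val (hc.is_comm.comm (⟨a, ha⟩ : A) ⟨b, hb⟩), hpow⟩

/-- The bound for solvable groups, given the bound for the minimal configuration. -/
theorem reduce (hcb : ClassBound.{u}) {G : Type u} [Group G] [Finite G] (hG : Group.IsSolvable G)
    (p : ℕ) [hpf : Fact p.Prime] (hp : p ∣ (Cfsg.fittingSubgroup G).index) :
    (p : ℝ) / (3 * Real.logb 2 p) ≤ Nat.card (ConjClasses G) := by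
  revert hG hp
  induction hn : Nat.card G using Nat.strong_induction_on generalizing G with
  | _ n ih =>
    intro hG hp
    subst hn
    by_cases hex : ∃ N : Subgroup G, ∃ _ : N.Normal,
        N ≠ ⊥ ∧ p ∣ (Cfsg.fittingSubgroup (G ⧸ N)).index
    · obtain ⟨N, hN, hN0, hd⟩ := hex
      haveI := hN
      have hlt : Nat.card (G ⧸ N) < Nat.card G := by
        rw [Subgroup.card_eq_card_quotient_mul_card_subgroup N]
        exact lt_mul_of_one_lt_right Nat.card_pos (N.one_lt_card_iff_ne_bot.2 hN0)
      exact (ih _ hlt rfl inferInstance hd).trans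
        (by exact_mod_cast card_conjClasses_quotient_le N)
    push Not at hex
    -- trivial Frattini subgroup
    have hΦ : frattini G = ⊥ := by
      by_contra h0
      exact hex (frattini G) inferInstance h0 (by rw [index_fitting_quotient_frattini]; exact hp)
    haveI : Nontrivial G := by
      by_contra hnt
      rw [not_nontrivial_iff_subsingleton] at hnt
      have : (Cfsg.fittingSubgroup G).index = 1 :=
        Subgroup.index_eq_one.2 (Subsingleton.elim _ _)
      rw [this] at hp
      exact hpf.out.not_dvd_one hp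
    obtain ⟨N, hN, hN0, -, hmin⟩ :=
      H19.exists_minimalNormal_le (⊤ : Subgroup G) top_ne_bot
    haveI := hN
    have huniq : ∀ M : Subgroup G, M.Normal → M ≠ ⊥ → N ≤ M := by
      intro M hM hM0
      haveI := hM
      rcases hmin (N ⊓ M) inferInstance inf_le_left with h | h
      · exact absurd hp (not_dvd_index_fitting_of_two N M h (hex N hN hN0) (hex M hM hM0))
      · exact h ▸ inf_le_right
    obtain ⟨hNc, r, hr, hNr, hpow⟩ := H19.minimalNormal_elementary N inferInstance hN0 hmin
    haveI := hNc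
    haveI := Fact.mk hr
    obtain ⟨K, hK⟩ : ∃ K : Subgroup G, Subgroup.IsComplement' N K :=
      (H19.complemented_iff_not_le_frattini N hN0 hmin).2
        (fun h => hN0 (le_bot_iff.1 (hΦ ▸ h)))
    have hcomm : ∀ a ∈ N, ∀ b ∈ N, a * b = b * a := fun a ha b hb =>
      congrArg Subtype.val (mul_comm' (⟨a, ha⟩ : N) ⟨b, hb⟩)
    -- `N` is self-centralising
    have hKC : ∀ k ∈ K, (∀ x ∈ N, k * x = x * k) → k = 1 := by
      intro k hk hkc
      let D := K ⊓ Subgroup.centralizer (N : Set G)
      have hDn : D.Normal := by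
        refine ⟨fun d hd g => ?_⟩
        obtain ⟨n, hn, κ, hκ, rfl⟩ := H19.exists_mul_of_sup_eq_top hK.sup_eq_top g
        have h1 : κ * d * κ⁻¹ ∈ D := ⟨K.mul_mem (K.mul_mem hκ hd.1) (K.inv_mem hκ),
          (Subgroup.Normal.conj_mem inferInstance d hd.2 κ :
            κ * d * κ⁻¹ ∈ Subgroup.centralizer (N : Set G))⟩
        have h2 : n * (κ * d * κ⁻¹) = (κ * d * κ⁻¹) * n :=
          Subgroup.mem_centralizer_iff.1 h1.2 n hn
        rw [show n * κ * d * (n * κ)⁻¹ = n * (κ * d * κ⁻¹) * n⁻¹ by group, h2]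
        simpa [mul_assoc] using h1
      by_contra hk1
      have hND : N ≤ D := huniq D hDn fun h0 => hk1 (by
        have : k ∈ D := ⟨hk, Subgroup.mem_centralizer_iff.2 fun x hx => (hkc x hx).symm⟩
        rwa [h0, Subgroup.mem_bot] at this)
      exact hN0 (le_bot_iff.1 ((le_inf le_rfl (hND.trans inf_le_left)).trans
        hK.disjoint.eq_bot.le))
    -- `F(G) = N`
    have hFN : Cfsg.fittingSubgroup G ≤ N := by
      haveI := H19.fitting_normal G
      haveI := H19.fitting_isNilpotent (G := G)
      have hNF : N ≤ Cfsg.fittingSubgroup G := H19.le_fitting hN hNr.isNilpotent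
      haveI : (N.subgroupOf (Cfsg.fittingSubgroup G)).Normal := inferInstance
      have hne := H19.inf_center_ne_bot (N.subgroupOf (Cfsg.fittingSubgroup G)) (by
        rw [ne_eq, Subgroup.subgroupOf_eq_bot]
        exact fun h => hN0 (h le_rfl hNF |> le_bot_iff.1))
      let Z := (Subgroup.center (Cfsg.fittingSubgroup G)).map (Cfsg.fittingSubgroup G).subtype
      haveI : Z.Normal := ConjAct.normal_of_characteristic_of_normal
      have hZ0 : Z ≠ ⊥ := by
        intro h0
        rw [Subgroup.map_eq_bot_iff_of_injective _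
          (Cfsg.fittingSubgroup G).subtype_injective] at h0
        exact hne (by rw [h0, inf_bot_eq])
      have hNZ : N ≤ Z := huniq Z inferInstance hZ0
      intro g hg
      obtain ⟨n, hn, k, hk, rfl⟩ := H19.exists_mul_of_sup_eq_top hK.sup_eq_top g
      have hk1 : k = 1 := hKC k hk fun x hx => by
        obtain ⟨z, hz, rfl⟩ := hNZ hx
        have hkF : k ∈ Cfsg.fittingSubgroup G := by
          have := (Cfsg.fittingSubgroup G).mul_mem
            ((Cfsg.fittingSubgroup G).inv_mem (hNF hn)) hg
          rwa [inv_mul_cancel_left] at this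
        exact congrArg Subtype.val (Subgroup.mem_center_iff.1 hz ⟨k, hkF⟩)
      rw [hk1, mul_one]; exact hn
    -- the complement
    have hbij : Function.Bijective ((QuotientGroup.mk' N).comp K.subtype) := by
      refine ⟨(injective_iff_map_eq_one _).2 fun k hk => ?_, fun q => ?_⟩
      · have h1 : (k : G) ∈ N := (QuotientGroup.eq_one_iff (k : G)).1 hk
        have : (k : G) ∈ N ⊓ K := ⟨h1, k.2⟩
        rw [hK.disjoint.eq_bot, Subgroup.mem_bot] at this
        exact Subtype.ext this
      · obtain ⟨g, rfl⟩ := QuotientGroup.mk'_surjective N q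
        obtain ⟨n, hn, k, hk, rfl⟩ := H19.exists_mul_of_sup_eq_top hK.sup_eq_top g
        exact ⟨⟨k, hk⟩, by simp [(QuotientGroup.eq_one_iff n).2 hn]⟩
    let e : K ≃* G ⧸ N := MulEquiv.ofBijective _ hbij
    have hidx : ¬ p ∣ (Cfsg.fittingSubgroup K).index := by
      have h1 := hex N hN hN0
      rw [← H51.fittingSubgroup_map_equiv e] at h1
      intro h2
      refine h1 ?_
      rwa [Subgroup.index_map_eq _ (show Function.Surjective e.toMonoidHom from e.surjective)
        (by rw [(MonoidHom.ker_eq_bot_iff _).2 (show Function.Injective e.toMonoidHom from e.injective)]; exact bot_le)]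
    have hKdvd : p ∣ Nat.card (Cfsg.fittingSubgroup K) := by
      have h1 : p ∣ N.index := hp.trans (by
        have hNF : N ≤ Cfsg.fittingSubgroup G := H19.le_fitting hN hNr.isNilpotent
        rw [le_antisymm hFN hNF])
      rw [Subgroup.index_eq_card, ← Nat.card_congr e.toEquiv,
        ← Subgroup.card_mul_index (Cfsg.fittingSubgroup K)] at h1
      exact (hpf.out.dvd_mul.1 h1).resolve_right hidx
    obtain ⟨W, hW, hW0, hWp, hWc, hWpow⟩ := exists_elementary_of_dvd_fitting hKdvd
    haveI := hW
    obtain ⟨w, hw⟩ := IsPGroup.iff_card.1 hWp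
    have hw0 : 0 < w := by
      rcases Nat.eq_zero_or_pos w with h | h
      · exact absurd (Subgroup.card_eq_one.1 (by rw [hw, h, pow_zero])) hW0
      · exact h
    letI := conjModule N K
    haveI : Nontrivial (Additive N) := by
      have := N.nontrivial_iff_ne_bot.2 hN0
      infer_instance
    haveI : FaithfulSMul K (Additive N) := ⟨fun {a b} hab => by
      have h1 : (a : G)⁻¹ * b = 1 := hKC _ (K.mul_mem (K.inv_mem a.2) b.2) fun x hx => by
        have h2 : ((a : G) * x * (a : G)⁻¹) = (b : G) * x * (b : G)⁻¹ :=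
          congrArg (fun v : Additive N => ((v.toMul : N) : G)) (hab (Additive.ofMul ⟨x, hx⟩))
        calc (a : G)⁻¹ * b * x = (a : G)⁻¹ * ((b : G) * x * (b : G)⁻¹) * b := by group
          _ = (a : G)⁻¹ * ((a : G) * x * (a : G)⁻¹) * b := by rw [h2]
          _ = x * ((a : G)⁻¹ * b) := by group
      exact Subtype.ext (inv_mul_eq_one.1 h1)⟩
    have hirr : Irr K (Additive N) := by
      intro U hU
      let M : Subgroup G := ((AddSubgroup.toSubgroup U : Subgroup N)).map N.subtype
      have hM : M.Normal := by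
        refine ⟨?_⟩
        rintro _ ⟨x, hx, rfl⟩ g
        obtain ⟨n, hn, k, hk, rfl⟩ := H19.exists_mul_of_sup_eq_top hK.sup_eq_top g
        refine ⟨((⟨k, hk⟩ : K) • Additive.ofMul x).toMul, hU ⟨k, hk⟩ _ hx, ?_⟩
        show k * (x : G) * k⁻¹ = n * k * (x : G) * (n * k)⁻¹
        have hxN : k * (x : G) * k⁻¹ ∈ N := hN.conj_mem _ x.2 k
        rw [show n * k * (x : G) * (n * k)⁻¹ = n * (k * (x : G) * k⁻¹) * n⁻¹ by group,
          hcomm n hn _ hxN]
        group
      rcases hmin M hM (Subgroup.map_subtype_le _) with h | h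
      · left
        refine (AddSubgroup.eq_bot_iff_forall U).2 fun v hv => ?_
        have hvM : ((v.toMul : N) : G) ∈ M := ⟨v.toMul, hv, rfl⟩
        rw [h, Subgroup.mem_bot] at hvM
        exact Additive.toMul.injective (Subtype.ext hvM)
      · right
        refine eq_top_iff.2 fun v _ => ?_
        obtain ⟨x, hx, hxv⟩ : (v.toMul : G) ∈ M := h.symm ▸ v.toMul.2
        have hxv' : x = v.toMul := Subtype.ext hxv
        rw [hxv'] at hx
        exact hx
    have hrv : ∀ v : Additive N, r • v = 0 := fun v => by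
      apply Additive.toMul.injective
      refine Subtype.ext ?_
      rw [toMul_nsmul, toMul_zero, Subgroup.coe_pow, Subgroup.coe_one]
      exact hpow _ v.toMul.2
    have hrp : r ≠ p := by
      intro he
      subst he
      let U : AddSubgroup (Additive N) :=
        { carrier := {v | ∀ x ∈ W, x • v = v}
          zero_mem' := fun x _ => smul_zero x
          add_mem' := fun {a b} ha hb x hx => by rw [smul_add, ha x hx, hb x hx]
          neg_mem' := fun {a} ha x hx => by rw [smul_neg, ha x hx] }
      have hU : Inv K (Additive N) U := fun k v hv x hx => by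
        have h1 : k⁻¹ * x * k ∈ W := by simpa using hW.conj_mem x hx k⁻¹
        calc x • k • v = k • (k⁻¹ * x * k) • v := by
              simp only [← mul_smul]; congr 1; group
          _ = k • v := by rw [hv _ h1]
      have hdv : r ∣ Nat.card (Additive N) := by
        obtain ⟨a, ha⟩ := IsPGroup.iff_card.1 hNr
        show r ∣ Nat.card N
        rw [ha]
        rcases Nat.eq_zero_or_pos a with h | h
        · exact absurd (Subgroup.card_eq_one.1 (by rw [ha, h, pow_zero])) hN0
        · exact dvd_pow_self r h.ne'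
      obtain ⟨b, hb, hb0⟩ := hWp.exists_fixed_point_of_prime_dvd_card_of_fixed_point
        (Additive N) hdv (a := 0) (fun x => smul_zero x)
      rcases hirr U hU with h | h
      · have hbU : b ∈ U := fun x hx => hb ⟨x, hx⟩
        rw [h, AddSubgroup.mem_bot] at hbU
        exact hb0 hbU.symm
      · refine hW0 ((Subgroup.eq_bot_iff_forall _).2 fun x hx => ?_)
        refine eq_of_smul_eq_smul (α := Additive N) fun v => ?_
        rw [one_smul]
        exact (h.symm ▸ AddSubgroup.mem_top v : v ∈ U) x hx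
    refine (hcb K (Additive N) W p r w inferInstance hirr hpf.out hr hrp hrv hWc hWpow hw hw0).trans
      ?_
    have := classes_add_orbits_le N K hK
    exact_mod_cast (by omega : Nat.card (ConjClasses K) +
      Nat.card (MulAction.orbitRel.Quotient K (Additive N)) - 1 ≤ Nat.card (ConjClasses G))

end Cfsg.Agent.H35.ClassPrime
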