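import Cfsg.Agent.H35.ClassPrime.Defs
import Cfsg.Agent.H52.RegPair.Pairing

/-!
Squarefree nondegenerate pairings: a Lagrangian, and a bound on the number of isometries.
-/

set_option autoImplicit false
set_option linter.unusedSectionVars false
set_option linter.style.haveILetI false

namespace Cfsg.Agent.H35.ClassPrime

open Cfsg.Agent.H52.RegPair

universe u

theorem symp_arith {p e g : ℕ} (hp : 2 ≤ p) (he : 0 < e) (hg : 16 * e * g ≤ 16 ^ e) :
    16 * (p * e) * (p ^ 3 * e ^ 4 * g) ≤ 16 ^ (p * e) := by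
  have h1 : p * e ≤ 2 ^ (e * (p - 1)) := by
    have ha : p ≤ 2 ^ (p - 1) := by
      have := Nat.lt_two_pow_self (n := p - 1); omega
    have hb : e ≤ 2 ^ (e - 1) := by
      have := Nat.lt_two_pow_self (n := e - 1); omega
    refine (Nat.mul_le_mul ha hb).trans ?_
    rw [← pow_add]
    refine Nat.pow_le_pow_right two_pos ?_
    obtain ⟨a, rfl⟩ : ∃ a, p = a + 2 := ⟨p - 2, by omega⟩
    obtain ⟨c, rfl⟩ : ∃ c, e = c + 1 := ⟨e - 1, by omega⟩
    simp only [show a + 2 - 1 = a + 1 by omega, show c + 1 - 1 = c by omega]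
    nlinarith [Nat.zero_le (a * c)]
  calc 16 * (p * e) * (p ^ 3 * e ^ 4 * g) = (p * e) ^ 4 * (16 * e * g) := by ring
    _ ≤ (2 ^ (e * (p - 1))) ^ 4 * 16 ^ e := Nat.mul_le_mul (Nat.pow_le_pow_left h1 4) hg
    _ = 16 ^ (e * (p - 1) + e) := by
        rw [pow_add, ← pow_mul, show e * (p - 1) * 4 = 4 * (e * (p - 1)) by ring, pow_mul]
        norm_num
    _ = 16 ^ (p * e) := by
        obtain ⟨a, rfl⟩ : ∃ a, p = a + 1 := ⟨p - 1, by omega⟩
        simp only [Nat.add_sub_cancel]
        ring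

variable {K : Type u} [Field K] [Finite K] {W : Type u} [CommGroup W] [Finite W]
  {b : W →* W →* Kˣ}

/-- The pairs with a given value `ζ` of prime order `p` of the pairing. -/
theorem card_pairs_le {p : ℕ} (ζ : Kˣ) (hζ : orderOf ζ = p) :
    p * Nat.card {q : W × W // b q.1 q.2 = ζ} ≤ Nat.card W * Nat.card W := by
  classical
  let v₀ : W → W := fun a => if h : ∃ c, b a c = ζ then h.choose else 1
  have hv₀ : ∀ q : {q : W × W // b q.1 q.2 = ζ}, b q.1.1 (v₀ q.1.1) = ζ := fun q => by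
    have h : ∃ c, b q.1.1 c = ζ := ⟨q.1.2, q.2⟩
    simp only [v₀, dif_pos h]
    exact h.choose_spec
  let f : Fin p × {q : W × W // b q.1 q.2 = ζ} → W × W :=
    fun z => (z.2.1.1, z.2.1.2 * v₀ z.2.1.1 ^ (z.1 : ℕ))
  have hf : Function.Injective f := by
    rintro ⟨i, ⟨⟨u, v⟩, hq⟩⟩ ⟨j, ⟨⟨u', v'⟩, hq'⟩⟩ h
    obtain ⟨rfl, h2⟩ : u = u' ∧ v * v₀ u ^ (i : ℕ) = v' * v₀ u' ^ (j : ℕ) := Prod.ext_iff.1 h
    have h0 : b u (v₀ u) = ζ := hv₀ ⟨(u, v), hq⟩
    have hq1 : b u v = ζ := hq
    have hq2 : b u v' = ζ := hq'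
    have h3 := congrArg (b u) h2
    rw [map_mul, map_mul, map_pow, map_pow, h0, hq1, hq2] at h3
    have h4 : ζ ^ (i : ℕ) = ζ ^ (j : ℕ) := mul_left_cancel h3
    have hij : i = j := Fin.ext (pow_injOn_Iio_orderOf
      (by simp [hζ, i.2]) (by simp [hζ, j.2]) h4)
    subst hij
    have h5 : v = v' := mul_right_cancel h2
    subst h5
    rfl
  have := Nat.card_le_card_of_injective f hf
  rwa [Nat.card_prod, Nat.card_prod, Nat.card_eq_fintype_card (α := Fin p), Fintype.card_fin] at this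

/-- Isometries fixing `S` pointwise restrict to its orthogonal. -/
noncomputable def restrictPerp (S : Subgroup W) (h : W ≃* W)
    (hiso : ∀ a c, b (h a) (h c) = b a c) (hfix : ∀ s ∈ S, h s = s) :
    {f : perp b S ≃* perp b S //
      ∀ a c : perp b S, b ((f a : perp b S) : W) ((f c : perp b S) : W) = b (a : W) (c : W)} :=
  ⟨{  toFun := fun t => ⟨h t, fun s hs => by rw [← hfix s hs, hiso]; exact t.2 s hs⟩
      invFun := fun t => ⟨h.symm t, fun s hs => by
        rw [← hiso, h.apply_symm_apply, hfix s hs]; exact t.2 s hs⟩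
      left_inv := fun t => Subtype.ext (h.symm_apply_apply _)
      right_inv := fun t => Subtype.ext (h.apply_symm_apply _)
      map_mul' := fun a c => Subtype.ext (map_mul h _ _) },
    fun a c => hiso _ _⟩

/-- Isometries, counted by the images of a hyperbolic pair and the orthogonal complement. -/
theorem card_isometry_le (x y : W) (S : Subgroup W)
    (hgen : ∀ h : W ≃* W, h x = x → h y = y → ∀ s ∈ S, h s = s) (htop : S ⊔ perp b S = ⊤) :
    Nat.card {f : W ≃* W // ∀ a c, b (f a) (f c) = b a c} ≤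
      Nat.card {q : W × W // b q.1 q.2 = b x y} *
        Nat.card {f : perp b S ≃* perp b S //
          ∀ a c : perp b S, b ((f a : perp b S) : W) ((f c : perp b S) : W) = b (a : W) (c : W)} := by
  classical
  let F := {f : W ≃* W // ∀ a c, b (f a) (f c) = b a c}
  haveI : Finite (W ≃* W) := Finite.of_injective (fun f : W ≃* W => (f : W → W)) DFunLike.coe_injective
  haveI : Finite (perp b S ≃* perp b S) :=
    Finite.of_injective (fun f : perp b S ≃* perp b S => (f : perp b S → perp b S))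
      DFunLike.coe_injective
  haveI : Nonempty F := ⟨⟨MulEquiv.refl W, fun a c => rfl⟩⟩
  let pr : F → {q : W × W // b q.1 q.2 = b x y} := fun f => ⟨(f.1 x, f.1 y), f.2 x y⟩
  let rep : {q : W × W // b q.1 q.2 = b x y} → F := Function.invFun pr
  have hrep : ∀ f : F, pr (rep (pr f)) = pr f := fun f => Function.invFun_eq ⟨f, rfl⟩
  have hres : ∀ f : F, (∀ a c, b ((f.1.trans (rep (pr f)).1.symm) a)
      ((f.1.trans (rep (pr f)).1.symm) c) = b a c) ∧
      ∀ s ∈ S, (f.1.trans (rep (pr f)).1.symm) s = s := by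
    intro f
    refine ⟨fun a c => ?_, hgen _ ?_ ?_⟩
    · rw [← (rep (pr f)).2, MulEquiv.trans_apply, MulEquiv.trans_apply, MulEquiv.apply_symm_apply,
        MulEquiv.apply_symm_apply, f.2]
    · rw [MulEquiv.trans_apply, MulEquiv.symm_apply_eq]
      exact (congrArg (fun q => q.1.1) (hrep f)).symm
    · rw [MulEquiv.trans_apply, MulEquiv.symm_apply_eq]
      exact (congrArg (fun q => q.1.2) (hrep f)).symm
  let Φ : F → {q : W × W // b q.1 q.2 = b x y} ×
      {f : perp b S ≃* perp b S //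
        ∀ a c : perp b S, b ((f a : perp b S) : W) ((f c : perp b S) : W) = b (a : W) (c : W)} :=
    fun f => (pr f, restrictPerp S _ (hres f).1 (hres f).2)
  have hΦ : Function.Injective Φ := by
    intro f f' h
    obtain ⟨h1, h2⟩ := Prod.ext_iff.1 h
    change pr f = pr f' at h1
    refine Subtype.ext (MulEquiv.ext fun w => ?_)
    obtain ⟨s, hs, t, ht, rfl⟩ := Subgroup.mem_sup.1 (htop ▸ Subgroup.mem_top w)
    have hs1 := (hres f).2 s hs
    have hs2 := (hres f').2 s hs
    have ht1 : (f.1.trans (rep (pr f)).1.symm) t = (f'.1.trans (rep (pr f')).1.symm) t :=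
      congrArg (fun z => (((z.1 : perp b S ≃* perp b S) ⟨t, ht⟩ : perp b S) : W)) h2
    rw [MulEquiv.trans_apply, MulEquiv.symm_apply_eq] at hs1 hs2
    rw [MulEquiv.trans_apply, MulEquiv.trans_apply, ← h1] at ht1
    rw [map_mul, map_mul, hs1, hs2, (rep (pr f)).1.symm.injective ht1, h1]
  refine (Nat.card_le_card_of_injective Φ hΦ).trans_eq ?_
  rw [Nat.card_prod]

theorem sympBound : SympBound.{u} := by
  intro K _ _ W _ _ b hb hsq
  induction hn : Nat.card W using Nat.strong_induction_on generalizing W with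
  | _ n ih =>
    subst hn
    haveI : Finite (W ≃* W) :=
      Finite.of_injective (fun f : W ≃* W => (f : W → W)) DFunLike.coe_injective
    rcases subsingleton_or_nontrivial W with hW | hW
    · refine ⟨1, ⊤, one_pos, by simp, by simp, fun x _ y _ => ?_, ?_⟩
      · rw [Subsingleton.elim x 1, map_one]; rfl
      · haveI : Subsingleton {f : W ≃* W // ∀ x y, b (f x) (f y) = b x y} :=
          ⟨fun f g => Subtype.ext (MulEquiv.ext fun w => Subsingleton.elim _ _)⟩
        have := Finite.card_le_one_iff_subsingleton.2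
          (inferInstance : Subsingleton {f : W ≃* W // ∀ x y, b (f x) (f y) = b x y})
        omega
    -- a hyperbolic pair of prime order
    obtain ⟨p, hp, hdvd⟩ := Nat.exists_prime_and_dvd
      (show Nat.card W ≠ 1 from fun h => absurd (Finite.one_lt_card (α := W)) (by omega))
    haveI := Fact.mk hp
    obtain ⟨x, hx⟩ := exists_prime_orderOf_dvd_card' p hdvd
    have hx1 : x ≠ 1 := fun h => hp.ne_one (by rw [← hx, h, orderOf_one])
    obtain ⟨y₀, hy₀⟩ : ∃ y₀, b x y₀ ≠ 1 := by
      by_contra hno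
      push Not at hno
      exact hx1 (hb.nondeg x hno)
    have hzp : b x y₀ ^ p = 1 := by
      rw [← MonoidHom.pow_apply, ← map_pow, ← hx, pow_orderOf_eq_one, map_one]; rfl
    have hord : orderOf (b x y₀) = p := orderOf_eq_prime hzp hy₀
    obtain ⟨N, hN, hy₀N⟩ := hsq y₀
    obtain ⟨m, hm⟩ : p ∣ N := hord ▸ orderOf_dvd_of_pow_eq_one
      (show b x y₀ ^ N = 1 by rw [← map_pow, hy₀N, map_one])
    have hpm : ¬ p ∣ m := fun ⟨c, hc⟩ =>
      hp.ne_one (Nat.isUnit_iff.1 (hN p ⟨c, by rw [hm, hc]; ring⟩))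
    let y := y₀ ^ m
    have hyp : y ^ p = 1 := by rw [← pow_mul, mul_comm, ← hm, hy₀N]
    have hxy : b x y ≠ 1 := by
      rw [map_pow]
      exact fun h => hpm (hord ▸ orderOf_dvd_of_pow_eq_one h)
    have hy1 : y ≠ 1 := fun h => hxy (by rw [h, map_one])
    have hy : orderOf y = p := orderOf_eq_prime hyp hy1
    have hzord : orderOf (b x y) = p := orderOf_eq_prime (by rw [← map_pow, hyp, map_one]) hxy
    -- the plane
    let φ : Subgroup.zpowers x × Subgroup.zpowers y →* W :=
      (Subgroup.zpowers x).subtype.coprod (Subgroup.zpowers y).subtype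
    let S := φ.range
    have hxS : x ∈ S := ⟨(⟨x, Subgroup.mem_zpowers x⟩, 1), by simp [φ]⟩
    have hyS : y ∈ S := ⟨(1, ⟨y, Subgroup.mem_zpowers y⟩), by simp [φ]⟩
    have hS : ∀ s ∈ S, ∃ i j : ℤ, x ^ i * y ^ j = s := by
      rintro _ ⟨⟨⟨_, i, rfl⟩, ⟨_, j, rfl⟩⟩, rfl⟩
      exact ⟨i, j, by simp [φ]⟩
    have hkey : ∀ i j : ℤ, b (x ^ i * y ^ j) x = 1 → b (x ^ i * y ^ j) y = 1 →
        x ^ i = 1 ∧ y ^ j = 1 := by
      intro i j h1 h2
      simp only [map_mul, map_zpow, MonoidHom.mul_apply, MonoidHom.zpow_apply, hb.self, one_zpow,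
        one_mul, mul_one] at h1 h2
      rw [hb.symm_eq x y, inv_zpow, inv_eq_one] at h1
      constructor
      · refine orderOf_dvd_iff_zpow_eq_one.1 ?_
        rw [hx, ← hzord]
        exact orderOf_dvd_iff_zpow_eq_one.2 h2
      · refine orderOf_dvd_iff_zpow_eq_one.1 ?_
        rw [hy, ← hzord]
        exact orderOf_dvd_iff_zpow_eq_one.2 h1
    have hφ : Function.Injective φ := by
      refine (injective_iff_map_eq_one φ).2 ?_
      rintro ⟨⟨_, i, rfl⟩, ⟨_, j, rfl⟩⟩ h
      have h' : x ^ i * y ^ j = 1 := by simpa [φ] using h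
      obtain ⟨h1, h2⟩ := hkey i j (by rw [h', map_one]; rfl) (by rw [h', map_one]; rfl)
      exact Prod.ext (Subtype.ext h1) (Subtype.ext h2)
    have hcardS : Nat.card S = p * p := by
      rw [← Nat.card_congr (MonoidHom.ofInjective hφ).toEquiv, Nat.card_prod, Nat.card_zpowers,
        Nat.card_zpowers, hx, hy]
    have hdis : S ⊓ perp b S = ⊥ := by
      refine (Subgroup.eq_bot_iff_forall _).2 fun s hs => ?_
      obtain ⟨i, j, rfl⟩ := hS s hs.1
      obtain ⟨h1, h2⟩ := hkey i j (hs.2 x hxS) (hs.2 y hyS)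
      rw [h1, h2, mul_one]
    have htop := hb.sup_perp hdis
    have hdis' : perp b S ⊓ perp b (perp b S) = ⊥ := by
      refine (Subgroup.eq_bot_iff_forall _).2 fun t ht => hb.nondeg t fun w => ?_
      obtain ⟨s, hs, c, hc, rfl⟩ := Subgroup.mem_sup.1 (htop ▸ Subgroup.mem_top w)
      rw [map_mul, ht.1 s hs, ht.2 c hc, one_mul]
    let ψ : S × perp b S →* W := S.subtype.coprod (perp b S).subtype
    have hψ : Function.Bijective ψ := by
      refine ⟨(injective_iff_map_eq_one ψ).2 ?_, fun w => ?_⟩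
      · rintro ⟨s, t⟩ h
        have h' : (s : W) * t = 1 := by simpa [ψ] using h
        have hs : (s : W) = (t : W)⁻¹ := eq_inv_of_mul_eq_one_left h'
        have : (s : W) ∈ S ⊓ perp b S := ⟨s.2, hs ▸ (perp b S).inv_mem t.2⟩
        rw [hdis, Subgroup.mem_bot] at this
        rw [this, one_mul] at h'
        exact Prod.ext (Subtype.ext this) (Subtype.ext h')
      · obtain ⟨s, hs, c, hc, rfl⟩ := Subgroup.mem_sup.1 (htop ▸ Subgroup.mem_top w)
        exact ⟨(⟨s, hs⟩, ⟨c, hc⟩), by simp [ψ]⟩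
    have hcard : Nat.card W = p * p * Nat.card (perp b S) := by
      rw [← Nat.card_eq_of_bijective ψ hψ, Nat.card_prod, hcardS]
    -- induction
    have hlt : Nat.card (perp b S) < Nat.card W := by
      rw [hcard]
      exact lt_mul_of_one_lt_left Nat.card_pos (by nlinarith [hp.two_le])
    obtain ⟨e', L', he', hWe', hL'card, hL', hg⟩ := ih _ hlt _ _ (hb.restrict hdis')
      (fun t => by
        obtain ⟨N, hN, h⟩ := hsq (t : W)
        exact ⟨N, hN, Subtype.ext (by rw [Subgroup.coe_pow, h]; rfl)⟩) rfl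
    let χ : Subgroup.zpowers x × L' →* W :=
      (Subgroup.zpowers x).subtype.coprod ((perp b S).subtype.comp L'.subtype)
    have hxz : ∀ a ∈ Subgroup.zpowers x, a ∈ S := fun a ha =>
      Subgroup.zpowers_le.2 hxS ha
    have hχ : Function.Injective χ := by
      refine (injective_iff_map_eq_one χ).2 ?_
      rintro ⟨a, c⟩ h
      have h' : ψ (⟨a, hxz a a.2⟩, (c : perp b S)) = ψ 1 := by
        rw [map_one]; simpa [ψ, χ] using h
      obtain ⟨h1, h2⟩ := Prod.ext_iff.1 (hψ.1 h')
      exact Prod.ext (Subtype.ext (congrArg (fun z : S => (z : W)) h1)) (Subtype.ext h2)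
    refine ⟨p * e', χ.range, Nat.mul_pos hp.pos he', ?_, ?_, ?_, ?_⟩
    · rw [hcard, hWe']; ring
    · rw [← Nat.card_congr (MonoidHom.ofInjective hχ).toEquiv, Nat.card_prod, Nat.card_zpowers, hx,
        hL'card]
    · rintro _ ⟨⟨⟨_, i, rfl⟩, c⟩, rfl⟩ _ ⟨⟨⟨_, j, rfl⟩, d⟩, rfl⟩
      have h1 : b ((c : perp b S) : W) (x ^ j) = 1 := (c : perp b S).2 _ (S.zpow_mem hxS j)
      have h2 : b (x ^ i) ((d : perp b S) : W) = 1 :=
        hb.eq_one_symm ((d : perp b S).2 _ (S.zpow_mem hxS i))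
      have h3 : b ((c : perp b S) : W) ((d : perp b S) : W) = 1 := hL' c c.2 d d.2
      have h4 : b (x ^ i) (x ^ j) = 1 := by
        simp only [map_zpow, MonoidHom.zpow_apply, hb.self, one_zpow]
      simp only [χ, MonoidHom.coprod_apply, MonoidHom.comp_apply, Subgroup.coe_subtype, map_mul,
        MonoidHom.mul_apply, h1, h2, h3, h4, mul_one]
    · have hgen : ∀ h : W ≃* W, h x = x → h y = y → ∀ s ∈ S, h s = s := by
        intro h h1 h2 s hs
        obtain ⟨i, j, rfl⟩ := hS s hs
        rw [map_mul, map_zpow, map_zpow, h1, h2]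
      have hiso := card_isometry_le (b := b) x y S hgen htop
      have hP := card_pairs_le (b := b) (b x y) hzord
      set P := Nat.card {q : W × W // b q.1 q.2 = b x y}
      set g := Nat.card {f : perp b S ≃* perp b S //
        ∀ a c : perp b S, b ((f a : perp b S) : W) ((f c : perp b S) : W) = b (a : W) (c : W)}
      have hg' : 16 * e' * g ≤ 16 ^ e' := hg
      rw [hcard, hWe'] at hP
      have hP' : P ≤ p ^ 3 * e' ^ 4 :=
        le_of_mul_le_mul_left (le_of_le_of_eq hP (show p * p * (e' * e') * (p * p * (e' * e')) =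
          p * (p ^ 3 * e' ^ 4) by ring)) hp.pos
      calc 16 * (p * e') * Nat.card {f : W ≃* W // ∀ a c, b (f a) (f c) = b a c}
          ≤ 16 * (p * e') * (p ^ 3 * e' ^ 4 * g) :=
            Nat.mul_le_mul_left _ (hiso.trans (Nat.mul_le_mul_right g hP'))
        _ ≤ 16 ^ (p * e') := symp_arith hp.two_le he' hg'

end Cfsg.Agent.H35.ClassPrime
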